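import Mathlib.FieldTheory.AlgebraicClosure
import Groth.Prelude.Def_W4c3irrattreebunCvg

/-!
Changing the field of constants of a covering diagram (used for S16310, S16311).
-/

set_option autoImplicit false
universe u

namespace K883.Cvg

open W4c3irrattreebun IntermediateField

/-- Restriction of constants. -/
noncomputable def restrictDiag {k k' K : Type u} [Field k] [Field k'] [Field K] [Algebra k k']
    [Algebra k K] [Algebra k' K] [IsScalarTower k k' K] {e : ℕ} (D : CovDiag.{u} k' K e) :
    CovDiag.{u} k K e :=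
  letI algkC : Algebra k D.KC := ((algebraMap K D.KC).comp (algebraMap k K)).toAlgebra
  letI algkB : Algebra k D.KB := ((algebraMap k' D.KB).comp (algebraMap k k')).toAlgebra
  { KC := D.KC
    KB := D.KB
    instFieldC := D.instFieldC
    instFieldB := D.instFieldB
    algKC := D.algKC
    algkC := algkC
    towerK := IsScalarTower.of_algebraMap_eq fun _ => rfl
    algkB := algkB
    algBC := D.algBC
    towerB := IsScalarTower.of_algebraMap_eq fun x => by
      change algebraMap K D.KC (algebraMap k K x) =
        algebraMap D.KB D.KC (algebraMap k' D.KB (algebraMap k k' x))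
      rw [← IsScalarTower.algebraMap_apply k' D.KB D.KC, IsScalarTower.algebraMap_apply k k' K,
        ← IsScalarTower.algebraMap_apply k' K D.KC]
    finiteK := D.finiteK
    t := D.t
    transc := D.transc
    finiteT := D.finiteT
    finrank_eq := D.finrank_eq }

theorem restrictDiag_KC {k k' K : Type u} [Field k] [Field k'] [Field K] [Algebra k k']
    [Algebra k K] [Algebra k' K] [IsScalarTower k k' K] {e : ℕ} (D : CovDiag.{u} k' K e)
    (h : Algebra.IsSeparable K D.KC) : Algebra.IsSeparable K (restrictDiag (k := k) D).KC := h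

theorem finite_finrank_adjoin_le {F E : Type u} [Field F] [Field E] [Algebra F E]
    (B : IntermediateField F E) (t : E) (hfin : Module.Finite (adjoin F ({t} : Set E)) E) :
    Module.Finite (adjoin B ({t} : Set E)) E ∧
      Module.finrank (adjoin B ({t} : Set E)) E ≤ Module.finrank (adjoin F ({t} : Set E)) E := by
  have hle : adjoin F ({t} : Set E) ≤ (adjoin B ({t} : Set E)).restrictScalars F := by
    rw [adjoin_le_iff, Set.singleton_subset_iff]
    exact mem_adjoin_simple_self B t
  refine ⟨?_, finrank_le_of_le_left hle⟩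
  obtain ⟨s, hs⟩ := hfin
  refine ⟨s, ?_⟩
  rw [eq_top_iff]
  intro x _
  have hx : x ∈ Submodule.span (adjoin F ({t} : Set E)) (s : Set E) := hs ▸ Submodule.mem_top
  induction hx using Submodule.span_induction with
  | mem x hx => exact Submodule.subset_span hx
  | zero => exact zero_mem _
  | add x y _ _ hx hy => exact add_mem (hx trivial) (hy trivial)
  | smul a x _ hx =>
    exact Submodule.smul_mem (Submodule.span (adjoin B ({t} : Set E)) (s : Set E))
      (⟨a.1, hle a.2⟩ : adjoin B ({t} : Set E)) (hx trivial)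

/-- Extension of constants to an algebraic extension of the field of constants inside `K`. -/
theorem exists_extendDiag {k k' K : Type u} [Field k] [Field k'] [Field K] [Algebra k k']
    [Algebra k K] [Algebra k' K] [IsScalarTower k k' K] [Algebra.IsAlgebraic k k'] {e : ℕ}
    (D : CovDiag.{u} k K e) :
    ∃ e' ≤ e, ∃ D' : CovDiag.{u} k' K e',
      (Algebra.IsSeparable K D.KC → Algebra.IsSeparable K D'.KC) := by
  let ψ : k' →+* D.KC := (algebraMap K D.KC).comp (algebraMap k' K)
  have hint : ∀ z : k', IsAlgebraic D.KB (ψ z) := by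
    intro z
    have h1 : IsAlgebraic k z := Algebra.IsAlgebraic.isAlgebraic z
    have h2 : IsAlgebraic k (algebraMap k' K z) := h1.algebraMap
    have h3 : IsAlgebraic k (algebraMap K D.KC (algebraMap k' K z)) := h2.algebraMap
    exact h3.tower_top D.KB
  obtain ⟨B', hB', hmem⟩ : ∃ B' : IntermediateField D.KB D.KC, Algebra.IsAlgebraic D.KB B' ∧
      ∀ z, ψ z ∈ B' := by
    refine ⟨adjoin D.KB (Set.range ψ), ?_, fun z => subset_adjoin _ _ ⟨z, rfl⟩⟩
    rw [isAlgebraic_adjoin_iff_isAlgebraic]
    rintro _ ⟨z, rfl⟩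
    exact hint z
  let ψ' : k' →+* B' := ψ.codRestrict B' hmem
  obtain ⟨hfin, hfr⟩ := finite_finrank_adjoin_le B' D.t D.finiteT
  refine ⟨_, hfr.trans D.finrank_eq.le, ?_⟩
  refine ⟨{
    KC := D.KC
    KB := B'
    instFieldC := D.instFieldC
    instFieldB := inferInstance
    algKC := D.algKC
    algkC := ψ.toAlgebra
    towerK := @IsScalarTower.of_algebraMap_eq k' K D.KC _ _ _ _ _ ψ.toAlgebra fun _ => rfl
    algkB := ψ'.toAlgebra
    algBC := inferInstance
    towerB := @IsScalarTower.of_algebraMap_eq k' B' D.KC _ _ _ ψ'.toAlgebra _ ψ.toAlgebra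
      fun _ => rfl
    finiteK := D.finiteK
    t := D.t
    transc := fun h => D.transc (h.restrictScalars D.KB)
    finiteT := hfin
    finrank_eq := rfl }, fun h => h⟩

theorem sInf_eq_of {S S' : Set ℕ} (h : S' ⊆ S) (h' : ∀ e ∈ S, ∃ e' ∈ S', e' ≤ e) :
    sInf S = sInf S' := by
  rcases S.eq_empty_or_nonempty with rfl | hne
  · rw [Set.subset_empty_iff.1 h]
  · apply le_antisymm
    · have hne' : S'.Nonempty := by
        obtain ⟨e, he⟩ := hne
        obtain ⟨e', he', _⟩ := h' e he
        exact ⟨e', he'⟩
      exact Nat.sInf_le (h (Nat.sInf_mem hne'))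
    · obtain ⟨e', he', hle⟩ := h' _ (Nat.sInf_mem hne)
      exact (Nat.sInf_le he').trans hle

theorem cvg_eq {k k' K : Type u} [Field k] [Field k'] [Field K] [Algebra k k']
    [Algebra k K] [Algebra k' K] [IsScalarTower k k' K] [Algebra.IsAlgebraic k k'] :
    cvg k K = cvg k' K := by
  refine sInf_eq_of ?_ ?_
  · rintro e ⟨D⟩
    exact ⟨restrictDiag D⟩
  · rintro e ⟨D⟩
    obtain ⟨e', he', D', _⟩ := exists_extendDiag (k' := k') D
    exact ⟨e', ⟨D'⟩, he'⟩

theorem scvg_eq {k k' K : Type u} [Field k] [Field k'] [Field K] [Algebra k k']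
    [Algebra k K] [Algebra k' K] [IsScalarTower k k' K] [Algebra.IsAlgebraic k k'] :
    scvg k K = scvg k' K := by
  refine sInf_eq_of ?_ ?_
  · rintro e ⟨D, hD⟩
    exact ⟨restrictDiag D, hD⟩
  · rintro e ⟨D, hD⟩
    obtain ⟨e', he', D', h⟩ := exists_extendDiag (k' := k') D
    exact ⟨e', ⟨D', h hD⟩, he'⟩

end K883.Cvg
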