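import Mathlib.FieldTheory.IntermediateField.Algebraic
import Mathlib.FieldTheory.IntermediateField.Adjoin.Algebra
import Mathlib.Algebra.Polynomial.Lifts
import Mathlib.RingTheory.Algebraic.Integral

/-!
Descent of finitely many elements to finitely generated subalgebras.
-/

set_option autoImplicit false
universe u

namespace K883.CvgDescent

open IntermediateField

/-- Elements of an adjoin lie in the adjoin of a finite subset. -/
theorem exists_finset_mem_adjoin {k E : Type*} [CommRing k] [CommRing E] [Algebra k E] (X : Set E)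
    {z : E} (hz : z ∈ Algebra.adjoin k X) :
    ∃ X₀ : Finset E, (X₀ : Set E) ⊆ X ∧ z ∈ Algebra.adjoin k (X₀ : Set E) := by
  classical
  induction hz using Algebra.adjoin_induction with
  | mem x hx => exact ⟨{x}, by simpa using hx, Algebra.subset_adjoin (by simp)⟩
  | algebraMap r => exact ⟨∅, by simp, Subalgebra.algebraMap_mem _ _⟩
  | add x y _ _ hx hy =>
    obtain ⟨X₁, h1, h1'⟩ := hx
    obtain ⟨X₂, h2, h2'⟩ := hy
    refine ⟨X₁ ∪ X₂, by rw [Finset.coe_union]; exact Set.union_subset h1 h2, add_mem ?_ ?_⟩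
    · exact Algebra.adjoin_mono (by simp) h1'
    · exact Algebra.adjoin_mono (by simp) h2'
  | mul x y _ _ hx hy =>
    obtain ⟨X₁, h1, h1'⟩ := hx
    obtain ⟨X₂, h2, h2'⟩ := hy
    refine ⟨X₁ ∪ X₂, by rw [Finset.coe_union]; exact Set.union_subset h1 h2, mul_mem ?_ ?_⟩
    · exact Algebra.adjoin_mono (by simp) h1'
    · exact Algebra.adjoin_mono (by simp) h2'

/-- Finite families. -/
theorem exists_finset_forall_mem_adjoin {k E ι : Type*} [CommRing k] [CommRing E] [Algebra k E]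
    (X : Set E) (s : Finset ι) (z : ι → E) (hz : ∀ i ∈ s, z i ∈ Algebra.adjoin k X) :
    ∃ X₀ : Finset E, (X₀ : Set E) ⊆ X ∧ ∀ i ∈ s, z i ∈ Algebra.adjoin k (X₀ : Set E) := by
  classical
  induction s using Finset.induction_on with
  | empty => exact ⟨∅, by simp, by simp⟩
  | insert a s _ ih =>
    obtain ⟨X₁, h1, h1'⟩ := ih (fun i hi => hz i (Finset.mem_insert_of_mem hi))
    obtain ⟨X₂, h2, h2'⟩ := exists_finset_mem_adjoin X (hz a (Finset.mem_insert_self a s))
    refine ⟨X₁ ∪ X₂, by rw [Finset.coe_union]; exact Set.union_subset h1 h2, fun i hi => ?_⟩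
    rcases Finset.mem_insert.1 hi with rfl | hi
    · exact Algebra.adjoin_mono (by simp) h2'
    · exact Algebra.adjoin_mono (by simp) (h1' i hi)

/-- Algebraic elements are algebraic over the adjoin of a finite subset. -/
theorem exists_finset_isAlgebraic {k E : Type*} [Field k] [Field E] [Algebra k E] (X : Set E)
    {z : E} (hz : IsAlgebraic (Algebra.adjoin k X) z) :
    ∃ X₀ : Finset E, (X₀ : Set E) ⊆ X ∧ IsAlgebraic (Algebra.adjoin k (X₀ : Set E)) z := by
  obtain ⟨p, hp, hp0⟩ := hz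
  obtain ⟨X₀, hX₀, h⟩ := exists_finset_forall_mem_adjoin X p.support
    (fun i => ((p.coeff i : Algebra.adjoin k X) : E)) (fun i _ => (p.coeff i).2)
  refine ⟨X₀, hX₀, ?_⟩
  let f : Algebra.adjoin k (X₀ : Set E) →+* Algebra.adjoin k X :=
    (Subalgebra.inclusion (Algebra.adjoin_mono hX₀)).toRingHom
  have hlift : p ∈ Polynomial.lifts f := by
    rw [Polynomial.lifts_iff_coeff_lifts]
    intro i
    by_cases hi : i ∈ p.support
    · exact ⟨⟨_, h i hi⟩, rfl⟩
    · rw [Polynomial.notMem_support_iff.1 hi]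
      exact ⟨0, map_zero f⟩
  obtain ⟨q, hq⟩ := (Polynomial.mem_lifts _).1 hlift
  refine ⟨q, fun h0 => hp (by rw [← hq, h0, Polynomial.map_zero]), ?_⟩
  rw [← hq, Polynomial.aeval_def, Polynomial.eval₂_map] at hp0
  exact hp0

/-- Monotonicity. -/
theorem isAlgebraic_mono {k E : Type*} [Field k] [Field E] [Algebra k E] {X Y : Set E}
    (hXY : X ⊆ Y) {z : E} (hz : IsAlgebraic (Algebra.adjoin k X) z) :
    IsAlgebraic (Algebra.adjoin k Y) z := by
  let f : Algebra.adjoin k X →+* Algebra.adjoin k Y :=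
    (Subalgebra.inclusion (Algebra.adjoin_mono hXY)).toRingHom
  exact hz.ringHom_of_comp_eq f (RingHom.id E)
    (Subalgebra.inclusion_injective (Algebra.adjoin_mono hXY)) rfl

/-- Elements of `B(t)` as fractions of polynomials with coefficients in a finite subset of `B`. -/
theorem exists_fraction {k B E : Type*} [Field k] [Field B] [Field E] [Algebra k E] [Algebra B E]
    (t : E) {z : E} (hz : z ∈ adjoin B ({t} : Set E)) :
    ∃ C : Finset E, (C : Set E) ⊆ Set.range (algebraMap B E) ∧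
      ∃ u ∈ Algebra.adjoin k ((C : Set E) ∪ {t}), ∃ p ∈ Algebra.adjoin k ((C : Set E) ∪ {t}),
        p ≠ 0 ∧ z = u * p⁻¹ := by
  classical
  have mono : ∀ (C₁ C₂ : Finset E), Algebra.adjoin k ((C₁ : Set E) ∪ {t}) ≤
      Algebra.adjoin k (((C₁ ∪ C₂ : Finset E) : Set E) ∪ {t}) := fun C₁ C₂ =>
    Algebra.adjoin_mono (Set.union_subset_union_left _ (by simp))
  have mono' : ∀ (C₁ C₂ : Finset E), Algebra.adjoin k ((C₂ : Set E) ∪ {t}) ≤
      Algebra.adjoin k (((C₁ ∪ C₂ : Finset E) : Set E) ∪ {t}) := fun C₁ C₂ =>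
    Algebra.adjoin_mono (Set.union_subset_union_left _ (by simp))
  induction hz using adjoin_induction with
  | mem x hx =>
    rw [Set.mem_singleton_iff] at hx
    subst hx
    exact ⟨∅, by simp, x, Algebra.subset_adjoin (Or.inr rfl), 1, one_mem _, one_ne_zero, by simp⟩
  | algebraMap x =>
    exact ⟨{algebraMap B E x}, by simp, algebraMap B E x, Algebra.subset_adjoin (Or.inl (by simp)),
      1, one_mem _, one_ne_zero, by simp⟩
  | add x y _ _ hx hy =>
    obtain ⟨C₁, h1, u, hu, p, hp, hp0, rfl⟩ := hx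
    obtain ⟨C₂, h2, v, hv, q, hq, hq0, rfl⟩ := hy
    refine ⟨C₁ ∪ C₂, by rw [Finset.coe_union]; exact Set.union_subset h1 h2,
      u * q + v * p, ?_, p * q, ?_, mul_ne_zero hp0 hq0, ?_⟩
    · exact add_mem (mul_mem (mono _ _ hu) (mono' _ _ hq)) (mul_mem (mono' _ _ hv) (mono _ _ hp))
    · exact mul_mem (mono _ _ hp) (mono' _ _ hq)
    · field_simp
  | inv x _ hx =>
    obtain ⟨C₁, h1, u, hu, p, hp, hp0, rfl⟩ := hx
    by_cases hu0 : u = 0
    · exact ⟨C₁, h1, 0, zero_mem _, 1, one_mem _, one_ne_zero, by simp [hu0]⟩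
    · exact ⟨C₁, h1, p, hp, u, hu, hu0, by rw [mul_inv, inv_inv, mul_comm]⟩
  | mul x y _ _ hx hy =>
    obtain ⟨C₁, h1, u, hu, p, hp, hp0, rfl⟩ := hx
    obtain ⟨C₂, h2, v, hv, q, hq, hq0, rfl⟩ := hy
    refine ⟨C₁ ∪ C₂, by rw [Finset.coe_union]; exact Set.union_subset h1 h2,
      u * v, mul_mem (mono _ _ hu) (mono' _ _ hv), p * q, mul_mem (mono _ _ hp) (mono' _ _ hq),
      mul_ne_zero hp0 hq0, ?_⟩
    field_simp

/-- Finite family version, with a finite set of denominators. -/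
theorem exists_fractions {k B E ι : Type*} [Field k] [Field B] [Field E] [Algebra k E] [Algebra B E]
    (t : E) (s : Finset ι) (z : ι → E) (hz : ∀ i ∈ s, z i ∈ adjoin B ({t} : Set E)) :
    ∃ C : Finset E, (C : Set E) ⊆ Set.range (algebraMap B E) ∧
      ∃ P : Finset E, (∀ p ∈ P, p ≠ 0 ∧ p ∈ Algebra.adjoin k ((C : Set E) ∪ {t})) ∧
      ∀ i ∈ s, ∃ u ∈ Algebra.adjoin k ((C : Set E) ∪ {t}), ∃ p ∈ P, z i = u * p⁻¹ := by
  classical
  induction s using Finset.induction_on with
  | empty => exact ⟨∅, by simp, ∅, by simp, by simp⟩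
  | insert a s _ ih =>
    obtain ⟨C₁, h1, P, hP, hs⟩ := ih (fun i hi => hz i (Finset.mem_insert_of_mem hi))
    obtain ⟨C₂, h2, u, hu, p, hp, hp0, hzu⟩ :=
      exists_fraction (k := k) t (hz a (Finset.mem_insert_self a s))
    have m1 : Algebra.adjoin k ((C₁ : Set E) ∪ {t}) ≤
        Algebra.adjoin k (((C₁ ∪ C₂ : Finset E) : Set E) ∪ {t}) :=
      Algebra.adjoin_mono (Set.union_subset_union_left _ (by simp))
    have m2 : Algebra.adjoin k ((C₂ : Set E) ∪ {t}) ≤
        Algebra.adjoin k (((C₁ ∪ C₂ : Finset E) : Set E) ∪ {t}) :=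
      Algebra.adjoin_mono (Set.union_subset_union_left _ (by simp))
    refine ⟨C₁ ∪ C₂, by rw [Finset.coe_union]; exact Set.union_subset h1 h2, insert p P, ?_, ?_⟩
    · intro q hq
      rcases Finset.mem_insert.1 hq with rfl | hq
      · exact ⟨hp0, m2 hp⟩
      · exact ⟨(hP q hq).1, m1 (hP q hq).2⟩
    · intro i hi
      rcases Finset.mem_insert.1 hi with rfl | hi
      · exact ⟨u, m2 hu, p, Finset.mem_insert_self _ _, hzu⟩
      · obtain ⟨v, hv, q, hq, h⟩ := hs i hi
        exact ⟨v, m1 hv, q, Finset.mem_insert_of_mem hq, h⟩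

end K883.CvgDescent
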