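import Groth.Agent.W4c3irrattreebun.K883.Table
import Groth.Agent.W4c3irrattreebun.K883.Descent

/-!
Descending a covering diagram along an algebraic extension.
-/

set_option autoImplicit false
universe u

namespace K883.CvgDownAlg

open W4c3irrattreebun IntermediateField

/-- Elements of `k[C, t]` lie in `B(t)` when `C ⊆ B`. -/
theorem mem_adjoin_of_subset {k κ : Type*} [Field k] [Field κ] [Algebra k κ] (C : Set κ)
    (B : IntermediateField k κ) (hC : C ⊆ B) (t : κ)
    {z : κ} (hz : z ∈ Algebra.adjoin k (C ∪ {t})) : z ∈ adjoin B ({t} : Set κ) := by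
  induction hz using Algebra.adjoin_induction with
  | mem x hx =>
    rcases hx with hx | hx
    · exact (adjoin B ({t} : Set κ)).algebraMap_mem ⟨x, hC hx⟩
    · rw [Set.mem_singleton_iff.1 hx]
      exact mem_adjoin_simple_self B t
  | algebraMap r => exact (adjoin B ({t} : Set κ)).algebraMap_mem (algebraMap k B r)
  | add x y _ _ hx hy => exact add_mem hx hy
  | mul x y _ _ hx hy => exact mul_mem hx hy

theorem exists_covDiag_of_algebraic {k K κ KB : Type u} [Field k] [Field K] [Field κ] [Field KB]
    [Algebra k K] [Algebra K κ] [Algebra k κ] [IsScalarTower k K κ] [Algebra.IsAlgebraic K κ]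
    [Algebra k KB] [Algebra KB κ] [IsScalarTower k KB κ] (s : Finset K)
    (hs : adjoin k (s : Set K) = ⊤) (t : κ) (ht : Transcendental KB t)
    [Module.Finite (adjoin KB ({t} : Set κ)) κ] {e : ℕ}
    (he : Module.finrank (adjoin KB ({t} : Set κ)) κ = e) :
    ∃ e' ≤ e, ∃ D : CovDiag.{u} k K e', (Algebra.IsSeparable K κ → Algebra.IsSeparable K D.KC) := by
  classical
  let bas : Module.Basis (Fin e) (adjoin KB ({t} : Set κ)) κ := Module.finBasisOfFinrankEq _ _ he
  -- the elements to be expanded
  let I : Finset κ := {1} ∪ (Finset.univ.image fun p : Fin e × Fin e => bas p.1 * bas p.2) ∪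
    s.image (algebraMap K κ)
  obtain ⟨C, hC, P, hP, hfr⟩ := K883.CvgDescent.exists_fractions (k := k) (B := KB) t
    (I ×ˢ (Finset.univ : Finset (Fin e))) (fun p => ((bas.repr p.1 p.2 : adjoin KB ({t} : Set κ)) : κ))
    (fun p _ => (bas.repr p.1 p.2).2)
  let B : IntermediateField k κ := adjoin k (C : Set κ)
  have hmem : ∀ x ∈ I, x ∈ Submodule.span (adjoin B ({t} : Set κ)) (Set.range bas) := by
    intro x hx
    rw [← bas.sum_repr x]
    refine Submodule.sum_mem _ fun i _ => ?_
    obtain ⟨u, hu, p, hp, h⟩ := hfr (x, i) (by simp [hx])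
    have hz : ((bas.repr x i : adjoin KB ({t} : Set κ)) : κ) ∈ adjoin B ({t} : Set κ) := by
      simp only at h
      rw [h]
      exact mul_mem (mem_adjoin_of_subset _ B (subset_adjoin k _) t hu)
        (inv_mem (mem_adjoin_of_subset _ B (subset_adjoin k _) t (hP p hp).2))
    have e1 : bas.repr x i • bas i =
        ((bas.repr x i : adjoin KB ({t} : Set κ)) : κ) * bas i := IntermediateField.smul_def _ _
    rw [e1]
    generalize ((bas.repr x i : adjoin KB ({t} : Set κ)) : κ) = w at hz
    have e2 : w * bas i = (⟨w, hz⟩ : adjoin B ({t} : Set κ)) • bas i := by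
      rw [IntermediateField.smul_def, smul_eq_mul]
    rw [e2]
    exact Submodule.smul_mem _ _ (Submodule.subset_span ⟨i, rfl⟩)
  have hBKB : ∀ x ∈ B, x ∈ Set.range (algebraMap KB κ) := by
    have h1 : B ≤ (IsScalarTower.toAlgHom k KB κ).fieldRange := by
      rw [adjoin_le_iff]
      intro x hx
      obtain ⟨y, hy⟩ := hC hx
      exact AlgHom.mem_fieldRange.2 ⟨y, hy⟩
    intro x hx
    obtain ⟨y, hy⟩ := AlgHom.mem_fieldRange.1 (h1 hx)
    exact ⟨y, hy⟩
  have htB : Transcendental B t := by
    intro halg
    apply ht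
    choose g hg using fun x : B => hBKB x x.2
    let f : B →+* KB :=
      { toFun := g
        map_one' := (algebraMap KB κ).injective (by rw [hg]; simp)
        map_mul' := fun x y => (algebraMap KB κ).injective (by rw [hg, map_mul, hg, hg]; rfl)
        map_zero' := (algebraMap KB κ).injective (by rw [hg]; simp)
        map_add' := fun x y => (algebraMap KB κ).injective (by rw [hg, map_add, hg, hg]; rfl) }
    exact halg.ringHom_of_comp_eq f (RingHom.id κ) f.injective (RingHom.ext fun x => hg x)
  refine K883.CvgTable.exists_covDiag (s : Set K) hs B ⟨C, rfl⟩ t htB bas ?_ ?_ ?_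
  · exact hmem 1 (by simp [I])
  · intro i j
    exact hmem _ (Finset.mem_union_left _ (Finset.mem_union_right _
      (Finset.mem_image.2 ⟨(i, j), Finset.mem_univ _, rfl⟩)))
  · intro a ha
    exact hmem _ (Finset.mem_union_right _ (Finset.mem_image.2 ⟨a, ha, rfl⟩))

end K883.CvgDownAlg
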