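import Groth.Agent.W4c3irrattreebun.K883.Descent
import Mathlib.RingTheory.Spectrum.Prime.Chevalley
import Mathlib.RingTheory.Spectrum.Prime.Jacobson
import Mathlib.RingTheory.Jacobson.Ring
import Mathlib.RingTheory.Ideal.GoingUp
import Mathlib.RingTheory.Algebraic.Integral
import Mathlib.RingTheory.LocalRing.ResidueField.Ideal
import Mathlib.RingTheory.Flat.Basic

/-!
Specialization of finitely many elements of a field algebraic over a compositum.
-/

set_option autoImplicit false
universe u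

namespace K883.CvgSpecialize

open scoped TensorProduct

/-- Extension of a maximal ideal of `A` to a place of a field, defined at given elements which are
integral after multiplication by an element outside the ideal. -/
theorem exists_place {A E : Type u} [CommRing A] [Field E] [Algebra A E]
    (hinj : Function.Injective (algebraMap A E)) (P : Ideal A) [P.IsMaximal] (G : Set E) (g : A)
    (hg : g ∉ P) (hG : ∀ γ ∈ G, IsIntegral A (g • γ)) :
    ∃ (S : Subalgebra A E) (κ : Type u) (_ : Field κ) (_ : Algebra A κ) (σ : S →ₐ[A] κ),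
      G ⊆ S ∧ Algebra.IsIntegral A κ ∧ ∀ a ∈ P, algebraMap A κ a = 0 := by
  classical
  let S₀ := integralClosure A E
  have hint : Algebra.IsIntegral A S₀ := integralClosure.AlgebraIsIntegral
  have hker : RingHom.ker (algebraMap A S₀) ≤ P := by
    intro a ha
    rw [RingHom.mem_ker] at ha
    have h1 : algebraMap A E a = 0 := by
      rw [IsScalarTower.algebraMap_apply A S₀ E, ha, map_zero]
    rw [(map_eq_zero_iff _ hinj).1 h1]
    exact zero_mem _
  obtain ⟨Q, hQ, hQP⟩ := Ideal.exists_ideal_over_maximal_of_isIntegral (S := S₀) P hker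
  let M : Submonoid S₀ := Q.primeCompl
  have hM : ∀ y : M, IsUnit (algebraMap S₀ E y) := by
    intro y
    rw [isUnit_iff_ne_zero]
    intro h0
    have h1 : (y : S₀) = 0 := Subtype.ext h0
    exact y.2 (h1 ▸ zero_mem Q)
  let f : Localization.AtPrime Q →ₐ[S₀] E :=
    IsLocalization.liftAlgHom (M := M) (f := Algebra.ofId S₀ E) hM
  have hf : Function.Injective f := by
    have h2 : Function.Injective f.toRingHom := by
      refine (IsLocalization.lift_injective_iff (M := M) (S := Localization.AtPrime Q) hM).2 ?_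
      intro x y
      constructor
      · intro h
        have h3 : x = y := by
          apply IsLocalization.injective (Localization.AtPrime Q) (M := M) _ h
          exact le_nonZeroDivisors_of_noZeroDivisors fun h => h (zero_mem Q)
        rw [h3]
      · intro h
        have h3 : x = y := Subtype.ext h
        rw [h3]
    exact h2
  let e : Localization.AtPrime Q ≃ₐ[S₀] f.range := AlgEquiv.ofInjective f hf
  let κ := S₀ ⧸ Q
  let fκ : Field κ := Ideal.Quotient.field Q
  let π : Localization.AtPrime Q →ₐ[S₀] κ :=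
    IsLocalization.liftAlgHom (M := M) (f := Algebra.ofId S₀ κ) fun y => by
      rw [isUnit_iff_ne_zero]
      intro h0
      exact y.2 (Ideal.Quotient.eq_zero_iff_mem.1 h0)
  let σ₀ : f.range →ₐ[S₀] κ := π.comp e.symm.toAlgHom
  refine ⟨f.range.restrictScalars A, κ, fκ, inferInstance, σ₀.restrictScalars A, ?_, ?_, ?_⟩
  · intro γ hγ
    let z : S₀ := ⟨g • γ, hG γ hγ⟩
    have hgM : algebraMap A S₀ g ∈ M := fun h => hg (hQP ▸ h)
    refine ⟨IsLocalization.mk' _ z (⟨algebraMap A S₀ g, hgM⟩ : M), ?_⟩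
    change IsLocalization.lift (M := M) hM _ = γ
    rw [IsLocalization.lift_mk'_spec]
    change g • γ = _
    rw [Algebra.smul_def]
    rfl
  · exact ⟨fun x => by
      obtain ⟨x, rfl⟩ := Ideal.Quotient.mk_surjective x
      exact (Algebra.IsIntegral.isIntegral x).map (Ideal.Quotient.mkₐ A Q)⟩
  · intro a ha
    rw [← hQP] at ha
    exact Ideal.Quotient.eq_zero_iff_mem.2 ha

/-- A maximal ideal of `K ⊗ R` avoiding a given nonzero element, lying over a maximal ideal of the
finitely generated algebra `R`. -/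
theorem exists_maximal {k K R : Type u} [Field k] [Field K] [CommRing R] [Algebra k K] [Algebra k R]
    [Algebra.FiniteType k R] [IsDomain (K ⊗[k] R)] (g : K ⊗[k] R) (hg : g ≠ 0) :
    ∃ P : Ideal (K ⊗[k] R), P.IsMaximal ∧ g ∉ P ∧ Algebra.IsIntegral K ((K ⊗[k] R) ⧸ P) ∧
      ∀ r : R, ∃ p : Polynomial k, p.Monic ∧
        Polynomial.aeval ((1 : K) ⊗ₜ[k] r : K ⊗[k] R) p ∈ P := by
  let e : K ⊗[k] R ≃ₐ[k] R ⊗[k] K := Algebra.TensorProduct.comm k K R
  have hdom : IsDomain (R ⊗[k] K) := e.symm.toRingEquiv.isDomain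
  have hJ : IsJacobsonRing R := isJacobsonRing_of_finiteType (A := k)
  let U : Set (PrimeSpectrum (R ⊗[k] K)) := PrimeSpectrum.basicOpen (e g)
  have hU : IsOpen U := (PrimeSpectrum.basicOpen (e g)).isOpen
  have hUne : U.Nonempty := by
    refine ⟨⟨⊥, Ideal.isPrime_bot⟩, ?_⟩
    change e g ∉ (⊥ : Ideal (R ⊗[k] K))
    rw [Ideal.mem_bot]
    exact fun h => hg ((map_eq_zero_iff e e.injective).1 h)
  obtain ⟨m, ⟨P', hP', hm⟩, hmcl⟩ := PrimeSpectrum.exists_isClosed_singleton_of_isJacobsonRing _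
    (PrimeSpectrum.isOpenMap_comap_algebraMap_tensorProduct_of_field (K := k) (A := R) (B := K) U hU)
    (hUne.image _)
  have hmmax : m.asIdeal.IsMaximal := (PrimeSpectrum.isClosed_singleton_iff_isMaximal _).1 hmcl
  let fm : Field (R ⧸ m.asIdeal) := Ideal.Quotient.field _
  have hfin : Module.Finite k (R ⧸ m.asIdeal) := finite_of_finite_type_of_isJacobsonRing k _
  let P : Ideal (K ⊗[k] R) := P'.asIdeal.comap e
  have hPprime : P.IsPrime := Ideal.IsPrime.comap e
  have hr : ∀ r : R, ∃ p : Polynomial k, p.Monic ∧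
      Polynomial.aeval ((1 : K) ⊗ₜ[k] r : K ⊗[k] R) p ∈ P := by
    intro r
    obtain ⟨p, hp, hp0⟩ := Algebra.IsIntegral.isIntegral (R := k) (Ideal.Quotient.mk m.asIdeal r)
    refine ⟨p, hp, ?_⟩
    have h1 : Polynomial.aeval r p ∈ m.asIdeal := by
      rw [← Ideal.Quotient.eq_zero_iff_mem, ← Ideal.Quotient.mkₐ_eq_mk k, ← Polynomial.aeval_algHom_apply]
      exact hp0
    rw [← hm] at h1
    change e _ ∈ P'.asIdeal
    have h2 : e (Polynomial.aeval ((1 : K) ⊗ₜ[k] r : K ⊗[k] R) p) =
        algebraMap R (R ⊗[k] K) (Polynomial.aeval r p) := by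
      have h3 : e (Polynomial.aeval ((1 : K) ⊗ₜ[k] r : K ⊗[k] R) p) =
          Polynomial.aeval (e ((1 : K) ⊗ₜ[k] r)) p :=
        (Polynomial.aeval_algHom_apply e.toAlgHom _ p).symm
      rw [h3, ← Polynomial.aeval_algebraMap_apply]
      rfl
    rw [h2]
    exact h1
  have hint : Algebra.IsIntegral K ((K ⊗[k] R) ⧸ P) := by
    refine ⟨fun x => ?_⟩
    obtain ⟨x, rfl⟩ := Ideal.Quotient.mk_surjective x
    induction x using TensorProduct.induction_on with
    | zero => rw [map_zero]; exact isIntegral_zero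
    | add a b ha hb => rw [map_add]; exact ha.add hb
    | tmul a r =>
      have h1 : Ideal.Quotient.mk P (a ⊗ₜ[k] r) = a • Ideal.Quotient.mk P ((1 : K) ⊗ₜ[k] r) := by
        change _ = Ideal.Quotient.mk P (a • ((1 : K) ⊗ₜ[k] r))
        rw [TensorProduct.smul_tmul', smul_eq_mul, mul_one]
      rw [h1]
      refine IsIntegral.smul a ?_
      obtain ⟨p, hp, hp0⟩ := hr r
      have h2 : IsIntegral k (Ideal.Quotient.mk P ((1 : K) ⊗ₜ[k] r)) := by
        refine ⟨p, hp, ?_⟩
        rw [← Polynomial.aeval_def, ← Ideal.Quotient.mkₐ_eq_mk k P, Polynomial.aeval_algHom_apply]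
        exact Ideal.Quotient.eq_zero_iff_mem.2 hp0
      exact h2.tower_top
  refine ⟨P, ?_, hP', hint, hr⟩
  exact Ideal.Quotient.maximal_of_isField P (isField_of_isIntegral_of_isField' (R := K)
    (S := (K ⊗[k] R) ⧸ P) (Field.toIsField K))

/-- Specialization, abstract form. -/
theorem exists_specialization_aux {k K A E : Type u} [Field k] [Field K] [CommRing A] [IsDomain A]
    [Field E] [Algebra k K] [Algebra k A] [Algebra K A] [IsScalarTower k K A] [Algebra A E]
    [Algebra K E] [IsScalarTower K A E] (hinj : Function.Injective (algebraMap A E)) (G : Finset E)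
    (hGalg : ∀ γ ∈ G, IsAlgebraic A γ) (V : Set A)
    (hmax : ∀ g : A, g ≠ 0 → ∃ P : Ideal A, P.IsMaximal ∧ g ∉ P ∧ Algebra.IsIntegral K (A ⧸ P) ∧
      ∀ r ∈ V, ∃ p : Polynomial k, p.Monic ∧ Polynomial.aeval r p ∈ P) :
    ∃ (S : Subalgebra K E) (κ : Type u) (_ : Field κ) (_ : Algebra K κ) (σ : S →ₐ[K] κ),
      Algebra.IsAlgebraic K κ ∧ (G : Set E) ⊆ S ∧ ∀ r ∈ V, ∃ hs : algebraMap A E r ∈ S,
        ∃ p : Polynomial k, p.Monic ∧
          p.eval₂ ((algebraMap K κ).comp (algebraMap k K)) (σ ⟨_, hs⟩) = 0 := by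
  classical
  have hmult : ∀ γ : E, ∃ y : A, y ≠ 0 ∧ (γ ∈ G → IsIntegral A (y • γ)) := by
    intro γ
    by_cases hγ : γ ∈ G
    · obtain ⟨y, hy, h⟩ := (hGalg γ hγ).exists_integral_multiple
      exact ⟨y, hy, fun _ => h⟩
    · exact ⟨1, one_ne_zero, fun h => absurd h hγ⟩
  choose y hy0 hy using hmult
  let g : A := ∏ γ ∈ G, y γ
  have hg0 : g ≠ 0 := Finset.prod_ne_zero_iff.2 fun γ _ => hy0 γ
  have hg : ∀ γ ∈ (G : Set E), IsIntegral A (g • γ) := by
    intro γ hγ
    have h1 : g = (∏ x ∈ G.erase γ, y x) * y γ := (Finset.prod_erase_mul G y hγ).symm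
    rw [h1, mul_smul]
    exact (hy γ hγ).smul _
  obtain ⟨P, hPmax, hgP, hPint, hPr⟩ := hmax g hg0
  obtain ⟨S, κ, fκ, algκ, σ, hGS, hκint, hPκ⟩ := exists_place hinj P (G : Set E) g hgP hg
  let algKκ : Algebra K κ := ((algebraMap A κ).comp (algebraMap K A)).toAlgebra
  have towκ : IsScalarTower K A κ := IsScalarTower.of_algebraMap_eq fun _ => rfl
  refine ⟨S.restrictScalars K, κ, fκ, algKκ, σ.restrictScalars K, ?_, hGS, ?_⟩
  · let alg2 : Algebra (A ⧸ P) κ := (Ideal.Quotient.lift P (algebraMap A κ) hPκ).toAlgebra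
    have t1 : IsScalarTower A (A ⧸ P) κ := IsScalarTower.of_algebraMap_eq fun _ => rfl
    have t2 : IsScalarTower K (A ⧸ P) κ := IsScalarTower.of_algebraMap_eq fun _ => rfl
    have h1 : Algebra.IsIntegral (A ⧸ P) κ := ⟨fun x => (hκint.isIntegral x).tower_top⟩
    have h2 : Algebra.IsIntegral K κ := Algebra.IsIntegral.trans (A ⧸ P)
    exact Algebra.IsIntegral.isAlgebraic
  · intro r hr
    have hs : algebraMap A E r ∈ S := S.algebraMap_mem _
    refine ⟨hs, ?_⟩
    obtain ⟨p, hp, hpP⟩ := hPr r hr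
    refine ⟨p, hp, ?_⟩
    have h2 : σ ⟨algebraMap A E r, hs⟩ = algebraMap A κ r := σ.commutes r
    change p.eval₂ _ (σ ⟨algebraMap A E r, hs⟩) = 0
    rw [h2]
    have h3 := hPκ _ hpP
    rw [Polynomial.aeval_def, Polynomial.hom_eval₂] at h3
    have h4 : (algebraMap A κ).comp (algebraMap k A) = (algebraMap K κ).comp (algebraMap k K) := by
      rw [IsScalarTower.algebraMap_eq k K A]
      rfl
    rw [h4] at h3
    exact h3

/-- Specialization. -/
theorem exists_specialization {k K L E : Type u} [Field k] [Field K] [Field L] [Field E]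
    [Algebra k K] [Algebra k L] [Algebra k E] [Algebra K E] [Algebra L E]
    [IsScalarTower k K E] [IsScalarTower k L E]
    (hinj : Function.Injective (Algebra.TensorProduct.productMap
      (IsScalarTower.toAlgHom k K E) (IsScalarTower.toAlgHom k L E)))
    (halg : ∀ z : E, IsAlgebraic (Algebra.adjoin k (Set.range (algebraMap L E) ∪
      Set.range (algebraMap K E))) z)
    (G : Finset E) (H : Finset L) :
    ∃ (S : Subalgebra K E) (κ : Type u) (_ : Field κ) (_ : Algebra K κ) (σ : S →ₐ[K] κ),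
      Algebra.IsAlgebraic K κ ∧ (G : Set E) ⊆ S ∧ ∀ h ∈ H, ∃ hs : algebraMap L E h ∈ S,
        ∃ p : Polynomial k, p.Monic ∧
          p.eval₂ ((algebraMap K κ).comp (algebraMap k K)) (σ ⟨_, hs⟩) = 0 := by
  classical
  -- a finite subset of `L`
  choose X hX hXalg using fun γ : E => K883.CvgDescent.exists_finset_isAlgebraic _ (halg γ)
  let X₀ : Finset E := G.biUnion X
  have hX₀ : (X₀ : Set E) ⊆ Set.range (algebraMap L E) ∪ Set.range (algebraMap K E) := by
    intro x hx
    obtain ⟨γ, _, h⟩ := Finset.mem_biUnion.1 (Finset.mem_coe.1 hx)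
    exact hX γ h
  let H' : Finset L := H ∪ X₀.preimage (algebraMap L E) (algebraMap L E).injective.injOn
  let R : Subalgebra k L := Algebra.adjoin k (H' : Set L)
  have hRft : Algebra.FiniteType k R := R.fg_iff_finiteType.1 (Subalgebra.fg_adjoin_finset H')
  let φ : K ⊗[k] R →ₐ[k] E := Algebra.TensorProduct.productMap (IsScalarTower.toAlgHom k K E)
    ((IsScalarTower.toAlgHom k L E).comp R.val)
  have hφinj : Function.Injective φ := by
    have h1 : φ = (Algebra.TensorProduct.productMap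
      (IsScalarTower.toAlgHom k K E) (IsScalarTower.toAlgHom k L E)).comp
        (Algebra.TensorProduct.map (AlgHom.id k K) R.val) := by
      ext x <;> simp [φ]
    have h2 : Function.Injective (Algebra.TensorProduct.map (AlgHom.id k K) R.val) := by
      have h3 : Function.Injective (LinearMap.lTensor K R.val.toLinearMap) :=
        Module.Flat.lTensor_preserves_injective_linearMap _ Subtype.val_injective
      exact h3
    rw [h1]
    exact hinj.comp h2
  have hφK : ∀ a : K, φ (a ⊗ₜ[k] 1) = algebraMap K E a := fun a => by simp [φ]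
  have hφR : ∀ r : R, φ (1 ⊗ₜ[k] r) = algebraMap L E r := fun r => by simp [φ]
  have hdom : IsDomain (K ⊗[k] R) := hφinj.isDomain φ.toRingHom
  let algA : Algebra (K ⊗[k] R) E := φ.toRingHom.toAlgebra
  have towA : IsScalarTower K (K ⊗[k] R) E := IsScalarTower.of_algebraMap_eq fun a => (hφK a).symm
  -- the elements of `G` are algebraic over `K ⊗ R`
  have hsub : Algebra.adjoin k ((X₀ : Set E) ∪ Set.range (algebraMap K E)) ≤ φ.range := by
    rw [Algebra.adjoin_le_iff]
    have hK : ∀ a : K, algebraMap K E a ∈ φ.range := fun a => ⟨_, hφK a⟩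
    rintro x (hx | ⟨a, rfl⟩)
    · rcases hX₀ hx with ⟨l, rfl⟩ | ⟨a, rfl⟩
      · have hl : l ∈ R := Algebra.subset_adjoin (by
          rw [Finset.mem_coe, Finset.mem_union, Finset.mem_preimage]
          exact Or.inr hx)
        exact ⟨_, hφR ⟨l, hl⟩⟩
      · exact hK a
    · exact hK a
  let e : K ⊗[k] R ≃ₐ[k] φ.range := AlgEquiv.ofInjective φ hφinj
  let f : Algebra.adjoin k ((X₀ : Set E) ∪ Set.range (algebraMap K E)) →ₐ[k] K ⊗[k] R :=
    e.symm.toAlgHom.comp (Subalgebra.inclusion hsub)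
  have hf : ∀ x, algebraMap (K ⊗[k] R) E (f x) = x := by
    intro x
    have h1 : e (e.symm (Subalgebra.inclusion hsub x)) = Subalgebra.inclusion hsub x :=
      e.apply_symm_apply _
    exact congrArg Subtype.val h1
  have hGalg : ∀ γ ∈ G, IsAlgebraic (K ⊗[k] R) γ := by
    intro γ hγ
    have h1 : IsAlgebraic (Algebra.adjoin k ((X₀ : Set E) ∪ Set.range (algebraMap K E))) γ := by
      refine K883.CvgDescent.isAlgebraic_mono ?_ (hXalg γ)
      intro x hx
      exact Or.inl (Finset.mem_biUnion.2 ⟨γ, hγ, hx⟩)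
    refine h1.ringHom_of_comp_eq f.toRingHom (RingHom.id E) ?_ (RingHom.ext fun x => hf x)
    exact e.symm.injective.comp (Subalgebra.inclusion_injective hsub)
  obtain ⟨S, κ, fκ, algκ, σ, h1, h2, h3⟩ := exists_specialization_aux (k := k) (K := K)
    (A := K ⊗[k] R) (E := E) hφinj G hGalg
    (Set.range fun r : R => (1 : K) ⊗ₜ[k] r) fun g hg => by
      obtain ⟨P, h1, h2, h3, h4⟩ := exists_maximal (k := k) (K := K) (R := R) g hg
      exact ⟨P, h1, h2, h3, by rintro _ ⟨r, rfl⟩; exact h4 r⟩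
  refine ⟨S, κ, fκ, algκ, σ, h1, h2, fun h hh => ?_⟩
  have hR : h ∈ R := Algebra.subset_adjoin (Finset.mem_coe.2 (Finset.mem_union_left _ hh))
  obtain ⟨hs, p, hp, hp0⟩ := h3 _ ⟨⟨h, hR⟩, rfl⟩
  have h4 : algebraMap (K ⊗[k] R) E (1 ⊗ₜ[k] ⟨h, hR⟩) = algebraMap L E h := hφR ⟨h, hR⟩
  have hs' : algebraMap L E h ∈ S := h4 ▸ hs
  refine ⟨hs', p, hp, ?_⟩
  have h5 : (⟨algebraMap L E h, hs'⟩ : S) = ⟨_, hs⟩ := Subtype.ext h4.symm
  rw [h5]
  exact hp0

end K883.CvgSpecialize
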