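import Mathlib.FieldTheory.IntermediateField.Algebraic
import Mathlib.FieldTheory.IntermediateField.Adjoin.Algebra
import Mathlib.RingTheory.AlgebraicIndependent.AlgebraicClosure
import Mathlib.RingTheory.AlgebraicIndependent.TranscendenceBasis
import Mathlib.RingTheory.TensorProduct.MvPolynomial
import Mathlib.RingTheory.Flat.Basic
import Mathlib.FieldTheory.FinTrdeg

/-!
Transcendence degree estimates for composita.
-/

set_option autoImplicit false
universe u

namespace K883.CvgTrdeg

open IntermediateField
open scoped TensorProduct

/-- If `E` is algebraic over the compositum of `L` and `C`, then `trdeg_L E ≤ trdeg_k C`. -/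
theorem trdeg_le_of_compositum (k C L E : Type u) [Field k] [Field C] [Field L] [Field E]
    [Algebra k C] [Algebra k L] [Algebra k E] [Algebra C E] [Algebra L E]
    [IsScalarTower k C E] [IsScalarTower k L E]
    [Algebra.IsAlgebraic (adjoin L (Set.range (algebraMap C E))) E] :
    Algebra.trdeg L E ≤ Algebra.trdeg k C := by
  obtain ⟨ι, x, hx⟩ := exists_isTranscendenceBasis' k C
  rw [← hx.cardinalMk_eq_trdeg]
  let s : Set E := Set.range (fun i => algebraMap C E (x i))
  let M : IntermediateField L E := adjoin L s
  let M₀ : IntermediateField k C := adjoin k (Set.range x)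
  have halgC : Algebra.IsAlgebraic M₀ C := by
    rw [isAlgebraic_adjoin_iff_top]
    exact hx.isAlgebraic
  have hM₀ : ∀ m : M₀, algebraMap C E m ∈ M := by
    have h1 : M₀ ≤ (M.restrictScalars k).comap (IsScalarTower.toAlgHom k C E) := by
      rw [adjoin_le_iff]
      rintro _ ⟨i, rfl⟩
      exact subset_adjoin L s ⟨i, rfl⟩
    exact fun m => h1 m.2
  let f : M₀ →+* M := ((algebraMap C E).comp (algebraMap M₀ C)).codRestrict M hM₀
  have hC : ∀ c : C, IsAlgebraic M (algebraMap C E c) := fun c =>
    (halgC.isAlgebraic c).ringHom_of_comp_eq f (algebraMap C E) f.injective rfl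
  have hle : (adjoin L (Set.range (algebraMap C E)) : IntermediateField L E) ≤
      (algebraicClosure M E).restrictScalars L := by
    rw [adjoin_le_iff]
    rintro _ ⟨c, rfl⟩
    exact mem_algebraicClosure_iff.2 (hC c)
  have halg : ∀ y : E, IsAlgebraic M y := by
    intro y
    have h2 := Algebra.IsAlgebraic.isAlgebraic (R := adjoin L (Set.range (algebraMap C E))) y
    let g : adjoin L (Set.range (algebraMap C E)) →+* algebraicClosure M E :=
      (algebraMap (adjoin L (Set.range (algebraMap C E))) E).codRestrict (algebraicClosure M E)
        (fun z => hle z.2)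
    have h3 : IsAlgebraic (algebraicClosure M E) y :=
      h2.ringHom_of_comp_eq g (RingHom.id E) g.injective rfl
    exact h3.restrictScalars M
  have halg' : Algebra.IsAlgebraic M E := ⟨halg⟩
  rw [isAlgebraic_adjoin_iff_top] at halg'
  refine (Algebra.IsAlgebraic.trdeg_le_cardinalMk L s).trans ?_
  exact Cardinal.mk_range_le

/-- `k`-algebraically independent elements of `K` remain algebraically independent over `L` in a
field into which `K ⊗ L` injects. -/
theorem algebraicIndependent_of_injective {k K L E : Type u} [Field k] [Field K] [Field L] [Field E]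
    [Algebra k K] [Algebra k L] [Algebra k E] [Algebra K E] [Algebra L E]
    [IsScalarTower k K E] [IsScalarTower k L E]
    (hinj : Function.Injective (Algebra.TensorProduct.productMap
      (IsScalarTower.toAlgHom k K E) (IsScalarTower.toAlgHom k L E)))
    {ι : Type u} {x : ι → K} (hx : AlgebraicIndependent k x) :
    AlgebraicIndependent L (fun i => algebraMap K E (x i)) := by
  let χ : L ⊗[k] K →ₐ[L] E := Algebra.TensorProduct.lift (Algebra.ofId L E)
    (IsScalarTower.toAlgHom k K E) (fun _ _ => mul_comm _ _)
  have hχ : Function.Injective χ := by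
    have h1 : (χ : L ⊗[k] K → E) = (Algebra.TensorProduct.productMap
      (IsScalarTower.toAlgHom k K E) (IsScalarTower.toAlgHom k L E)) ∘
      (Algebra.TensorProduct.comm k L K) := by
      ext z
      induction z using TensorProduct.induction_on with
      | zero => simp
      | tmul l a =>
        simp [χ, mul_comm, Algebra.ofId_apply]
      | add a b ha hb => rw [map_add, ha, hb]; simp
    rw [h1]
    exact hinj.comp (Algebra.TensorProduct.comm k L K).injective
  let ψ : L ⊗[k] MvPolynomial ι k →ₐ[L] L ⊗[k] K :=
    Algebra.TensorProduct.map (AlgHom.id L L) (MvPolynomial.aeval x)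
  have hψ : Function.Injective ψ := by
    have h2 : Function.Injective (LinearMap.lTensor L
        (MvPolynomial.aeval x : MvPolynomial ι k →ₐ[k] K).toLinearMap) :=
      Module.Flat.lTensor_preserves_injective_linearMap _ hx
    exact h2
  let e := (MvPolynomial.algebraTensorAlgEquiv (σ := ι) k L).symm
  have h3 : (MvPolynomial.aeval (fun i => algebraMap K E (x i)) : MvPolynomial ι L →ₐ[L] E) =
      (χ.comp ψ).comp e.toAlgHom := by
    ext i
    simp [χ, ψ, e]
  change Function.Injective (MvPolynomial.aeval (fun i => algebraMap K E (x i)) :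
    MvPolynomial ι L →ₐ[L] E)
  rw [h3]
  exact (hχ.comp hψ).comp e.injective

theorem trdeg_le_of_injective_tensor {k K L E : Type u} [Field k] [Field K] [Field L] [Field E]
    [Algebra k K] [Algebra k L] [Algebra k E] [Algebra K E] [Algebra L E]
    [IsScalarTower k K E] [IsScalarTower k L E]
    (hinj : Function.Injective (Algebra.TensorProduct.productMap
      (IsScalarTower.toAlgHom k K E) (IsScalarTower.toAlgHom k L E))) :
    Algebra.trdeg k K ≤ Algebra.trdeg L E := by
  obtain ⟨ι, x, hx⟩ := exists_isTranscendenceBasis' k K
  rw [← hx.cardinalMk_eq_trdeg]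
  exact (algebraicIndependent_of_injective hinj hx.1).cardinalMk_le_trdeg

end K883.CvgTrdeg
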