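import Groth.Agent.W4c3irrattreebun.K883.Table
import Groth.Agent.W4c3irrattreebun.K883.Trdeg
import Groth.Agent.W4c3irrattreebun.K883.Specialize
import Groth.Agent.W4c3irrattreebun.K883.DownAlg
import Mathlib.FieldTheory.AlgebraicClosure

/-!
Descending a covering diagram along an arbitrary extension of the base field.
-/

set_option autoImplicit false
universe u

namespace K883.CvgDown

open W4c3irrattreebun IntermediateField
open scoped TensorProduct

theorem mem_algebraicClosure_of {Y κ A : Type*} [Field Y] [Field κ] [CommRing A] [Algebra Y κ]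
    [Algebra A κ] (hA : Function.Injective (algebraMap A κ))
    (h : ∀ a : A, algebraMap A κ a ∈ algebraicClosure Y κ) {x : κ} (hx : IsAlgebraic A x) :
    x ∈ algebraicClosure Y κ := by
  let f : A →+* algebraicClosure Y κ := (algebraMap A κ).codRestrict (algebraicClosure Y κ) h
  have hf : Function.Injective f := fun a b hab => hA (congrArg Subtype.val hab)
  have h1 : IsAlgebraic (algebraicClosure Y κ) x := hx.ringHom_of_comp_eq f (RingHom.id κ) hf rfl
  exact mem_algebraicClosure_iff.2 (h1.restrictScalars Y)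

/-- Transport of membership in an adjoin through a homomorphism from a subalgebra. -/
theorem map_mem_adjoin {k E κ : Type*} [CommRing k] [CommRing E] [CommRing κ] [Algebra k E]
    [Algebra k κ] (S : Subalgebra k E) (σ : S →ₐ[k] κ) (X : Set E) (X' : Set κ)
    (hX : ∀ x ∈ X, ∃ hx : x ∈ S, σ ⟨x, hx⟩ ∈ X') {z : E} (hz : z ∈ Algebra.adjoin k X) :
    ∃ hz' : z ∈ S, σ ⟨z, hz'⟩ ∈ Algebra.adjoin k X' := by
  induction hz using Algebra.adjoin_induction with
  | mem x hx =>
    obtain ⟨h1, h2⟩ := hX x hx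
    exact ⟨h1, Algebra.subset_adjoin h2⟩
  | algebraMap r =>
    refine ⟨S.algebraMap_mem r, ?_⟩
    have h1 : σ ⟨algebraMap k E r, S.algebraMap_mem r⟩ = algebraMap k κ r := σ.commutes r
    rw [h1]
    exact Subalgebra.algebraMap_mem _ _
  | add x y _ _ hx hy =>
    obtain ⟨h1, h2⟩ := hx
    obtain ⟨h3, h4⟩ := hy
    refine ⟨add_mem h1 h3, ?_⟩
    have h5 : σ ⟨x + y, add_mem h1 h3⟩ = σ ⟨x, h1⟩ + σ ⟨y, h3⟩ := (map_add σ ⟨x, h1⟩ ⟨y, h3⟩)
    rw [h5]
    exact add_mem h2 h4
  | mul x y _ _ hx hy =>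
    obtain ⟨h1, h2⟩ := hx
    obtain ⟨h3, h4⟩ := hy
    refine ⟨mul_mem h1 h3, ?_⟩
    have h5 : σ ⟨x * y, mul_mem h1 h3⟩ = σ ⟨x, h1⟩ * σ ⟨y, h3⟩ := (map_mul σ ⟨x, h1⟩ ⟨y, h3⟩)
    rw [h5]
    exact mul_mem h2 h4

/-- Algebraicity over a finitely generated subring specializes. -/
theorem isAlgebraic_map {k E κ : Type*} [Field k] [Field E] [Field κ] [Algebra k E]
    [Algebra k κ] (S : Subalgebra k E) (σ : S →ₐ[k] κ) (X : Set E) (X' : Set κ)
    (hX : ∀ x ∈ X, ∃ hx : x ∈ S, σ ⟨x, hx⟩ ∈ X') (w : Algebra.adjoin k X)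
    (hw : (w : E)⁻¹ ∈ S) (hw0 : w ≠ 0) {c : E} (hc : c ∈ S)
    (hint : IsIntegral (Algebra.adjoin k X) (w • c)) :
    IsAlgebraic (Algebra.adjoin k X') (σ ⟨c, hc⟩) := by
  have hX' : Algebra.adjoin k X ≤ S := fun z hz => (map_mem_adjoin S σ X X' hX hz).1
  let τ : Algebra.adjoin k X →+* Algebra.adjoin k X' :=
    (σ.comp (Subalgebra.inclusion hX')).toRingHom.codRestrict (Algebra.adjoin k X')
      fun z => (map_mem_adjoin S σ X X' hX z.2).2
  have hwS : (w : E) ∈ S := hX' w.2
  have hw0' : (w : E) ≠ 0 := fun h => hw0 (Subtype.ext h)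
  have hσw : σ ⟨w, hwS⟩ ≠ 0 := by
    intro h0
    have h1 : σ ⟨w, hwS⟩ * σ ⟨(w : E)⁻¹, hw⟩ = 1 := by
      rw [← map_mul, ← map_one σ]
      congr 1
      exact Subtype.ext (mul_inv_cancel₀ hw0')
    rw [h0, zero_mul] at h1
    exact zero_ne_one h1
  -- integrality of the image
  have h2 : IsIntegral (Algebra.adjoin k X') (σ ⟨(w : E) * c, mul_mem hwS hc⟩) := by
    obtain ⟨p, hp, hp0⟩ := hint
    refine ⟨p.map τ, hp.map τ, ?_⟩
    rw [Polynomial.eval₂_map]
    have h3 : (algebraMap (Algebra.adjoin k X') κ).comp τ =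
        σ.toRingHom.comp (Subalgebra.inclusion hX').toRingHom := rfl
    rw [h3]
    have h4 := Polynomial.hom_eval₂ p (Subalgebra.inclusion hX').toRingHom σ.toRingHom
      ⟨(w : E) * c, mul_mem hwS hc⟩
    refine h4.symm.trans ?_
    have h5 : Polynomial.eval₂ (Subalgebra.inclusion hX').toRingHom
        (⟨(w : E) * c, mul_mem hwS hc⟩ : S) p = 0 := by
      apply Subtype.ext
      have h6 := Polynomial.hom_eval₂ p (Subalgebra.inclusion hX').toRingHom S.val.toRingHom
        ⟨(w : E) * c, mul_mem hwS hc⟩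
      exact h6.trans hp0
    rw [h5, map_zero]
  have h7 : σ ⟨(w : E) * c, mul_mem hwS hc⟩ = (τ w) • σ ⟨c, hc⟩ := by
    rw [Algebra.smul_def]
    exact map_mul σ ⟨w, hwS⟩ ⟨c, hc⟩
  rw [h7] at h2
  refine IsAlgebraic.of_smul_isIntegral (y := τ w) ?_ h2
  rw [isNilpotent_iff_eq_zero]
  exact fun h0 => hσw (congrArg Subtype.val h0)

/-- `E` is algebraic over `k[L, K]` if it is algebraic over the compositum. -/
theorem isAlgebraic_adjoin_union {k K L E : Type u} [Field k] [Field K] [Field L] [Field E]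
    [Algebra k L] [Algebra k E] [Algebra K E] [Algebra L E] [IsScalarTower k L E]
    [Algebra.IsAlgebraic (adjoin L (Set.range (algebraMap K E))) E] (z : E) :
    IsAlgebraic (Algebra.adjoin k (Set.range (algebraMap L E) ∪ Set.range (algebraMap K E))) z := by
  have h1 : Algebra.IsAlgebraic (Algebra.adjoin L (Set.range (algebraMap K E))) E := by
    rw [← isAlgebraic_adjoin_iff_top]
    infer_instance
  have h2 : ∀ x ∈ Algebra.adjoin L (Set.range (algebraMap K E)),
      x ∈ Algebra.adjoin k (Set.range (algebraMap L E) ∪ Set.range (algebraMap K E)) := by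
    intro x hx
    induction hx using Algebra.adjoin_induction with
    | mem x hx => exact Algebra.subset_adjoin (Or.inr hx)
    | algebraMap r => exact Algebra.subset_adjoin (Or.inl ⟨r, rfl⟩)
    | add x y _ _ hx hy => exact add_mem hx hy
    | mul x y _ _ hx hy => exact mul_mem hx hy
  let f : Algebra.adjoin L (Set.range (algebraMap K E)) →+*
      Algebra.adjoin k (Set.range (algebraMap L E) ∪ Set.range (algebraMap K E)) :=
    (algebraMap (Algebra.adjoin L (Set.range (algebraMap K E))) E).codRestrict _ fun x => h2 x x.2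
  exact (h1.isAlgebraic z).ringHom_of_comp_eq f (RingHom.id E)
    (fun a b hab => by
      have h3 : ((f a : _) : E) = ((f b : _) : E) := congrArg Subtype.val hab
      exact Subtype.ext h3) rfl

theorem trdeg_succ_le {L KB E : Type u} [Field L] [Field KB] [Field E] [Algebra L KB]
    [Algebra L E] [Algebra KB E] [IsScalarTower L KB E] {t : E} (ht : Transcendental KB t) :
    Algebra.trdeg L KB + 1 ≤ Algebra.trdeg L E := by
  have h1 : Algebra.trdeg L KB + Algebra.trdeg KB E = Algebra.trdeg L E := trdeg_add_eq L KB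
  have h2 : Algebra.trdeg KB E ≠ 0 := by
    rw [trdeg_ne_zero_iff]
    exact ⟨⟨t, ht⟩⟩
  rw [← h1]
  gcongr
  exact Cardinal.one_le_iff_ne_zero.2 h2

theorem exists_descend {k K L E KB : Type u} [Field k] [Field K] [Field L] [Field E] [Field KB]
    [Algebra k K] [Algebra k L] [Algebra k E] [Algebra K E] [Algebra L E]
    [IsScalarTower k K E] [IsScalarTower k L E] [Algebra L KB] [Algebra KB E] [IsScalarTower L KB E]
    (hinj : Function.Injective (Algebra.TensorProduct.productMap
      (IsScalarTower.toAlgHom k K E) (IsScalarTower.toAlgHom k L E)))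
    [Algebra.IsAlgebraic (adjoin L (Set.range (algebraMap K E))) E]
    (hfin : Algebra.trdeg k K < Cardinal.aleph0) (s : Finset K) (hs : adjoin k (s : Set K) = ⊤)
    (t : E) (ht : Transcendental KB t) [Module.Finite (adjoin KB ({t} : Set E)) E] {e : ℕ}
    (he : Module.finrank (adjoin KB ({t} : Set E)) E = e) :
    ∃ e' ≤ e, Nonempty (CovDiag.{u} k K e') := by
  classical
  let bas : Module.Basis (Fin e) (adjoin KB ({t} : Set E)) E := Module.finBasisOfFinrankEq _ _ he
  let I : Finset E := {1} ∪ (Finset.univ.image fun p : Fin e × Fin e => bas p.1 * bas p.2) ∪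
    s.image (algebraMap K E)
  obtain ⟨C, hC, P, hP, hfr⟩ := K883.CvgDescent.exists_fractions (k := k) (B := KB) t
    (I ×ˢ (Finset.univ : Finset (Fin e))) (fun p => ((bas.repr p.1 p.2 : adjoin KB ({t} : Set E)) : E))
    (fun p _ => (bas.repr p.1 p.2).2)
  -- a transcendence basis of `KB` over `L`
  obtain ⟨ι, x, hx⟩ := exists_isTranscendenceBasis' L KB
  have hle1 : Algebra.trdeg L KB + 1 ≤ Algebra.trdeg k K :=
    (trdeg_succ_le (L := L) ht).trans (K883.CvgTrdeg.trdeg_le_of_compositum k K L E)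
  have hιfin : Finite ι := by
    rw [← Cardinal.lt_aleph0_iff_finite, hx.cardinalMk_eq_trdeg]
    exact lt_of_le_of_lt ((self_le_add_right _ _).trans hle1) hfin
  let y : ι → E := fun i => algebraMap KB E (x i)
  have hyfin : (Set.range y).Finite := Set.finite_range y
  -- the elements of `C` are algebraic over `k[L, y]`
  have hCalg : ∀ c ∈ C, IsAlgebraic (Algebra.adjoin k (Set.range (algebraMap L E) ∪ Set.range y)) c := by
    intro c hc
    obtain ⟨c', rfl⟩ := hC hc
    have h1 : ∀ z ∈ Algebra.adjoin L (Set.range x), algebraMap KB E z ∈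
        Algebra.adjoin k (Set.range (algebraMap L E) ∪ Set.range y) := by
      intro z hz
      induction hz using Algebra.adjoin_induction with
      | mem z hz =>
        obtain ⟨i, rfl⟩ := hz
        exact Algebra.subset_adjoin (Or.inr ⟨i, rfl⟩)
      | algebraMap r =>
        rw [← IsScalarTower.algebraMap_apply L KB E]
        exact Algebra.subset_adjoin (Or.inl ⟨r, rfl⟩)
      | add x y _ _ hx hy => rw [map_add]; exact add_mem hx hy
      | mul x y _ _ hx hy => rw [map_mul]; exact mul_mem hx hy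
    let f : Algebra.adjoin L (Set.range x) →+*
        Algebra.adjoin k (Set.range (algebraMap L E) ∪ Set.range y) :=
      ((algebraMap KB E).comp (algebraMap (Algebra.adjoin L (Set.range x)) KB)).codRestrict _
        fun z => h1 z z.2
    have h2 : IsAlgebraic (Algebra.adjoin L (Set.range x)) c' := hx.isAlgebraic.isAlgebraic c'
    refine h2.ringHom_of_comp_eq f (algebraMap KB E) ?_ rfl
    intro a b hab
    exact Subtype.ext ((algebraMap KB E).injective (congrArg Subtype.val hab))
  have hX1 : ∀ c : E, ∃ X : Finset E, (X : Set E) ⊆ Set.range (algebraMap L E) ∪ Set.range y ∧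
      (c ∈ C → IsAlgebraic (Algebra.adjoin k (X : Set E)) c) := by
    intro c
    by_cases hc : c ∈ C
    · obtain ⟨X, hX, h⟩ := K883.CvgDescent.exists_finset_isAlgebraic _ (hCalg c hc)
      exact ⟨X, hX, fun _ => h⟩
    · exact ⟨∅, by simp, fun h => absurd h hc⟩
  choose X hX hXalg using hX1
  let Xs : Finset E := C.biUnion X
  have hXs : (Xs : Set E) ⊆ Set.range (algebraMap L E) ∪ Set.range y := by
    intro z hz
    obtain ⟨c, _, h⟩ := Finset.mem_biUnion.1 (Finset.mem_coe.1 hz)
    exact hX c h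
  have hXsalg : ∀ c ∈ C, IsAlgebraic (Algebra.adjoin k (Xs : Set E)) c := fun c hc =>
    K883.CvgDescent.isAlgebraic_mono (fun z hz => Finset.mem_biUnion.2 ⟨c, hc, hz⟩) (hXalg c hc)
  let H : Finset L := Xs.preimage (algebraMap L E) (algebraMap L E).injective.injOn
  have hw1 : ∀ c : E, ∃ w : Algebra.adjoin k (Xs : Set E), w ≠ 0 ∧
      (c ∈ C → IsIntegral (Algebra.adjoin k (Xs : Set E)) (w • c)) := by
    intro c
    by_cases hc : c ∈ C
    · obtain ⟨w, hw, h⟩ := (hXsalg c hc).exists_integral_multiple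
      exact ⟨w, hw, fun _ => h⟩
    · exact ⟨1, one_ne_zero, fun h => absurd h hc⟩
  choose w hw0 hw using hw1
  -- specialization
  let G : Finset E := {t} ∪ Finset.univ.image bas ∪ P.image (fun p => p⁻¹) ∪ C ∪ hyfin.toFinset ∪
    C.image (fun c => ((w c : Algebra.adjoin k (Xs : Set E)) : E)⁻¹)
  obtain ⟨S, κ, fκ, algκ, σ, hκalg, hGS, hHS⟩ := K883.CvgSpecialize.exists_specialization hinj
    (fun z => isAlgebraic_adjoin_union (k := k) (K := K) (L := L) z) G H
  let algkκ : Algebra k κ := ((algebraMap K κ).comp (algebraMap k K)).toAlgebra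
  have towκ : IsScalarTower k K κ := IsScalarTower.of_algebraMap_eq fun _ => rfl
  have hG : ∀ z ∈ G, z ∈ S := fun z hz => hGS hz
  have htS : t ∈ S := hG t (by simp [G])
  have hbS : ∀ i, bas i ∈ S := fun i => hG _ (by simp [G])
  have hCS : ∀ c ∈ C, c ∈ S := fun c hc => hG c (by simp [G, hc])
  have hyS : ∀ i, y i ∈ S := fun i => hG _ (by simp [G])
  have hPS : ∀ p ∈ P, p⁻¹ ∈ S := fun p hp => hG _ (by
    simp only [G, Finset.mem_union]
    exact Or.inl (Or.inl (Or.inl (Or.inr (Finset.mem_image_of_mem _ hp)))))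
  have hwS : ∀ c ∈ C, ((w c : Algebra.adjoin k (Xs : Set E)) : E)⁻¹ ∈ S := fun c hc => hG _ (by
    simp only [G, Finset.mem_union]
    exact Or.inr (Finset.mem_image_of_mem (fun c => ((w c : Algebra.adjoin k (Xs : Set E)) : E)⁻¹) hc))
  have hyX : Set.range y ⊆ S := by rintro _ ⟨i, rfl⟩; exact hyS i
  -- the specialization as a `k`-homomorphism
  let Sk : Subalgebra k E := S.restrictScalars k
  let σk : Sk →ₐ[k] κ := σ.restrictScalars k
  have hσ : ∀ (z : E) (h : z ∈ S), σk ⟨z, h⟩ = σ ⟨z, h⟩ := fun _ _ => rfl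
  -- the field `Y`
  let y' : ι → κ := fun i => σ ⟨y i, hyS i⟩
  let Y : IntermediateField k κ := adjoin k (Set.range y')
  let Z : IntermediateField Y κ := algebraicClosure Y κ
  have hZk : ∀ a : k, algebraMap k κ a ∈ Z := fun a => by
    rw [IsScalarTower.algebraMap_apply k Y κ]
    exact Z.algebraMap_mem _
  have hZy : ∀ i, y' i ∈ Z := fun i => by
    have h1 : y' i ∈ Y := subset_adjoin k _ ⟨i, rfl⟩
    exact Z.algebraMap_mem ⟨_, h1⟩
  have hZadj : ∀ (X : Set κ), (∀ z ∈ X, z ∈ Z) → ∀ z ∈ Algebra.adjoin k X, z ∈ Z := by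
    intro X hX z hz
    induction hz using Algebra.adjoin_induction with
    | mem z hz => exact hX z hz
    | algebraMap r => exact hZk r
    | add x y _ _ hx hy => exact add_mem hx hy
    | mul x y _ _ hx hy => exact mul_mem hx hy
  -- image of `Xs`
  let X' : Set κ := {z | ∃ a : E, ∃ h : a ∈ S, a ∈ Xs ∧ σ ⟨a, h⟩ = z}
  have hXsS : ∀ a ∈ (Xs : Set E), ∃ h : a ∈ Sk, σk ⟨a, h⟩ ∈ X' := by
    intro a ha
    have haS : a ∈ S := by
      rcases hXs ha with ⟨l, rfl⟩ | h
      · exact (hHS l (by simpa [H] using ha)).1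
      · exact hyX h
    exact ⟨haS, a, haS, ha, rfl⟩
  have hZX' : ∀ z ∈ X', z ∈ Z := by
    rintro _ ⟨a, haS, ha, rfl⟩
    rcases hXs ha with ⟨l, rfl⟩ | ⟨i, rfl⟩
    · obtain ⟨_, p, hp, hp0⟩ := hHS l (by simpa [H] using ha)
      have h1 : IsAlgebraic k (σ ⟨algebraMap L E l, haS⟩) := ⟨p, hp.ne_zero, hp0⟩
      exact mem_algebraicClosure_iff.2 (h1.tower_top Y)
    · exact hZy i
  have hZC : ∀ c (hc : c ∈ C), σ ⟨c, hCS c hc⟩ ∈ Z := by
    intro c hc
    have h1 : IsAlgebraic (Algebra.adjoin k X') (σk ⟨c, hCS c hc⟩) :=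
      isAlgebraic_map Sk σk (Xs : Set E) X' hXsS (w c) (hwS c hc) (hw0 c) (hCS c hc) (hw c hc)
    exact mem_algebraicClosure_of Subtype.val_injective
      (fun a => hZadj X' hZX' _ a.2) h1
  -- the fields for the table lemma
  let C' : Set κ := Set.range fun c : C => σ ⟨c, hCS c c.2⟩
  have hC'fin : C'.Finite := Set.finite_range _
  let B : IntermediateField k κ := adjoin k C'
  have hBFG : B.FG := ⟨hC'fin.toFinset, by rw [Set.Finite.coe_toFinset]⟩
  let t' : κ := σ ⟨t, htS⟩
  let b' : Fin e → κ := fun i => σ ⟨bas i, hbS i⟩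
  have hCt : ∀ z ∈ ((C : Set E) ∪ {t}), ∃ h : z ∈ Sk, σk ⟨z, h⟩ ∈ C' ∪ {t'} := by
    rintro z (hz | rfl)
    · exact ⟨hCS z hz, Or.inl ⟨⟨z, hz⟩, rfl⟩⟩
    · exact ⟨htS, Or.inr rfl⟩
  have hmem : ∀ z ∈ I, ∀ hzS : z ∈ S, σ ⟨z, hzS⟩ ∈
      Submodule.span (adjoin B ({t'} : Set κ)) (Set.range b') := by
    intro z hz hzS
    have hcoef : ∀ i, ∃ h : ((bas.repr z i : adjoin KB ({t} : Set E)) : E) ∈ S,
        σ ⟨_, h⟩ ∈ adjoin B ({t'} : Set κ) := by
      intro i
      obtain ⟨u, hu, p, hp, h⟩ := hfr (z, i) (by simp [hz])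
      simp only at h
      obtain ⟨hpS, hp'⟩ := map_mem_adjoin Sk σk _ _ hCt (hP p hp).2
      obtain ⟨huS, hu'⟩ := map_mem_adjoin Sk σk _ _ hCt hu
      have h1 : σ ⟨p⁻¹, hPS p hp⟩ = (σ ⟨p, hpS⟩)⁻¹ := by
        apply eq_inv_of_mul_eq_one_left
        rw [← map_mul, ← map_one σ]
        congr 1
        exact Subtype.ext (inv_mul_cancel₀ (hP p hp).1)
      have hS : ((bas.repr z i : adjoin KB ({t} : Set E)) : E) ∈ S := by
        rw [h]
        exact mul_mem huS (hPS p hp)
      refine ⟨hS, ?_⟩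
      have h2 : σ ⟨_, hS⟩ = σ ⟨u, huS⟩ * (σ ⟨p, hpS⟩)⁻¹ := by
        rw [← h1, ← map_mul]
        congr 1
        exact Subtype.ext h
      rw [h2]
      exact mul_mem (K883.CvgDownAlg.mem_adjoin_of_subset _ B (subset_adjoin k _) t' hu')
        (inv_mem (K883.CvgDownAlg.mem_adjoin_of_subset _ B (subset_adjoin k _) t' hp'))
    choose hcS hc using hcoef
    have h3 : (⟨z, hzS⟩ : S) = ∑ i, (⟨_, hcS i⟩ : S) * ⟨bas i, hbS i⟩ := by
      apply Subtype.ext
      change z = S.val (∑ i, (⟨_, hcS i⟩ : S) * ⟨bas i, hbS i⟩)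
      rw [map_sum]
      exact (bas.sum_repr z).symm
    rw [h3, map_sum]
    refine Submodule.sum_mem _ fun i _ => ?_
    rw [map_mul]
    have h4 := hc i
    generalize σ ⟨_, hcS i⟩ = a at h4
    have e2 : a * σ ⟨bas i, hbS i⟩ = (⟨a, h4⟩ : adjoin B ({t'} : Set κ)) • b' i := rfl
    rw [e2]
    exact Submodule.smul_mem _ _ (Submodule.subset_span ⟨i, rfl⟩)
  have h1mem : (1 : κ) ∈ Submodule.span (adjoin B ({t'} : Set κ)) (Set.range b') := by
    have h := hmem 1 (by simp [I]) (one_mem S)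
    have h' : σ ⟨1, one_mem S⟩ = 1 := map_one σ
    rwa [h'] at h
  have hmulmem : ∀ i j, b' i * b' j ∈ Submodule.span (adjoin B ({t'} : Set κ)) (Set.range b') := by
    intro i j
    have h := hmem (bas i * bas j) (Finset.mem_union_left _ (Finset.mem_union_right _
      (Finset.mem_image.2 ⟨(i, j), Finset.mem_univ _, rfl⟩))) (mul_mem (hbS i) (hbS j))
    have h' : σ ⟨bas i * bas j, mul_mem (hbS i) (hbS j)⟩ = b' i * b' j :=
      map_mul σ ⟨bas i, hbS i⟩ ⟨bas j, hbS j⟩
    rwa [h'] at h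
  have hKmem : ∀ a ∈ (s : Set K), algebraMap K κ a ∈
      Submodule.span (adjoin B ({t'} : Set κ)) (Set.range b') := by
    intro a ha
    have h := hmem (algebraMap K E a) (Finset.mem_union_right _ (Finset.mem_image.2 ⟨a, ha, rfl⟩))
      (S.algebraMap_mem a)
    have h' : σ ⟨algebraMap K E a, S.algebraMap_mem a⟩ = algebraMap K κ a := σ.commutes a
    rwa [h'] at h
  -- transcendence
  have htr : Transcendental B t' := by
    intro halg
    have hZB : ∀ z ∈ B, z ∈ Z := by
      have h1 : B ≤ Z.restrictScalars k := by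
        rw [adjoin_le_iff]
        rintro _ ⟨c, rfl⟩
        exact hZC c c.2
      exact h1
    have hZt : t' ∈ Z := mem_algebraicClosure_of (A := B) (algebraMap B κ).injective
      (fun a => hZB a a.2) halg
    have hZM : ∀ z ∈ adjoin B ({t'} : Set κ), z ∈ Z := by
      intro z hz
      induction hz using adjoin_induction with
      | mem z hz => rw [Set.mem_singleton_iff.1 hz]; exact hZt
      | algebraMap z => exact hZB z z.2
      | add x y _ _ hx hy => exact add_mem hx hy
      | inv x _ hx => exact inv_mem hx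
      | mul x y _ _ hx hy => exact mul_mem hx hy
    obtain ⟨F, hF⟩ := K883.CvgTable.exists_intermediateField b' h1mem hmulmem
    have hFfin : FiniteDimensional (adjoin B ({t'} : Set κ)) F := by
      have h0 : Module.Finite (adjoin B ({t'} : Set κ))
          (Submodule.span (adjoin B ({t'} : Set κ)) (Set.range b')) :=
        Module.Finite.iff_fg.2 (Submodule.fg_span (Set.finite_range b'))
      exact Submodule.finiteDimensional_of_le (S₁ := F.toSubalgebra.toSubmodule)
        (S₂ := Submodule.span (adjoin B ({t'} : Set κ)) (Set.range b')) fun z hz => (hF z).1 hz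
    have hZF : ∀ z ∈ F, z ∈ Z := by
      intro z hz
      have h1 : IsAlgebraic (adjoin B ({t'} : Set κ)) (⟨z, hz⟩ : F) :=
        Algebra.IsAlgebraic.isAlgebraic _
      have h2 : IsAlgebraic (adjoin B ({t'} : Set κ)) z := h1.algHom F.val
      exact mem_algebraicClosure_of (A := adjoin B ({t'} : Set κ))
        (algebraMap (adjoin B ({t'} : Set κ)) κ).injective (fun a => hZM a a.2) h2
    have hZK : ∀ a : K, algebraMap K κ a ∈ Z := by
      have h1 : adjoin k (s : Set K) ≤ (Z.restrictScalars k).comap (IsScalarTower.toAlgHom k K κ) := by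
        rw [adjoin_le_iff]
        intro a ha
        exact hZF _ ((hF _).2 (hKmem a ha))
      intro a
      have : a ∈ adjoin k (s : Set K) := hs ▸ mem_top
      exact h1 this
    have hZtop : ∀ z : κ, z ∈ Z := fun z =>
      mem_algebraicClosure_of (A := K) (algebraMap K κ).injective hZK (hκalg.isAlgebraic z)
    have hYalg : Algebra.IsAlgebraic Y κ := ⟨fun z => mem_algebraicClosure_iff.1 (hZtop z)⟩
    rw [isAlgebraic_adjoin_iff_top] at hYalg
    have h2 : Algebra.trdeg k κ ≤ Cardinal.mk (Set.range y') :=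
      Algebra.IsAlgebraic.trdeg_le_cardinalMk k (Set.range y')
    have h3 : Algebra.trdeg k K ≤ Algebra.trdeg L KB := by
      rw [← hx.cardinalMk_eq_trdeg]
      refine le_trans ?_ (h2.trans Cardinal.mk_range_le)
      have h4 : Algebra.trdeg k K + Algebra.trdeg K κ = Algebra.trdeg k κ := trdeg_add_eq k K
      rw [← h4]
      exact self_le_add_right _ _
    obtain ⟨m, hm⟩ := Cardinal.lt_aleph0.1 hfin
    obtain ⟨l, hl⟩ := Cardinal.lt_aleph0.1 (lt_of_le_of_lt ((self_le_add_right _ _).trans hle1) hfin)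
    rw [hl, hm] at hle1
    rw [hl, hm] at h3
    norm_cast at hle1 h3
    omega
  obtain ⟨e', he', D, _⟩ := K883.CvgTable.exists_covDiag (s : Set K) hs B hBFG t' htr b' h1mem
    hmulmem hKmem
  exact ⟨e', he', ⟨D⟩⟩

end K883.CvgDown
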