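import Groth.Agent.W4c3irrattreebun.K883.Setup
import Groth.Agent.W4c3irrattreebun.K883.Down

/-!
Invariance of the covering gonality under extensions of the base field.
-/

set_option autoImplicit false
universe u

namespace K883.CvgEq

open W4c3irrattreebun IntermediateField
open scoped TensorProduct

theorem cvg_eq {k K L K' : Type u} [Field k] [Field K] [Field L]
    [Field K'] [Algebra k K] [Algebra k L]
    (hfg : (⊤ : IntermediateField k K).FG)
    [Algebra (K ⊗[k] L) K'] [IsFractionRing (K ⊗[k] L) K'] [Algebra L K']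
    (hL : ∀ x : L, algebraMap L K' x = algebraMap (K ⊗[k] L) K' ((1 : K) ⊗ₜ[k] x)) :
    cvg L K' = cvg k K := by
  refine K883.CvgSetup.setup hL ?_
  intro i1 i2 i3 i4 hinj hgen hgen'
  refine K883.CvgSetup.sInf_eq_of_le ?_ ?_
  · rintro e ⟨D⟩
    obtain ⟨s, hs⟩ := hfg
    let j1 : Algebra K D.KC := ((algebraMap K' D.KC).comp (algebraMap K K')).toAlgebra
    have j2 : IsScalarTower K K' D.KC := IsScalarTower.of_algebraMap_eq fun _ => rfl
    let j3 : Algebra k D.KC := ((algebraMap K' D.KC).comp (algebraMap k K')).toAlgebra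
    have j4 : IsScalarTower k K D.KC := IsScalarTower.of_algebraMap_eq fun a => by
      change algebraMap K' D.KC (algebraMap k K' a) =
        algebraMap K' D.KC (algebraMap K K' (algebraMap k K a))
      rw [← IsScalarTower.algebraMap_apply k K K']
    have j5 : IsScalarTower k L D.KC := IsScalarTower.of_algebraMap_eq fun a => by
      change algebraMap K' D.KC (algebraMap k K' a) = algebraMap L D.KC (algebraMap k L a)
      rw [IsScalarTower.algebraMap_apply k L K', ← IsScalarTower.algebraMap_apply L K' D.KC]
    have j6 : IsScalarTower k K' D.KC := IsScalarTower.of_algebraMap_eq fun _ => rfl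
    have hinjE : Function.Injective (Algebra.TensorProduct.productMap
        (IsScalarTower.toAlgHom k K D.KC) (IsScalarTower.toAlgHom k L D.KC)) := by
      have h2 : (Algebra.TensorProduct.productMap
        (IsScalarTower.toAlgHom k K D.KC) (IsScalarTower.toAlgHom k L D.KC)) =
        (IsScalarTower.toAlgHom k K' D.KC).comp (Algebra.TensorProduct.productMap
        (IsScalarTower.toAlgHom k K K') (IsScalarTower.toAlgHom k L K')) := by
        ext x
        · simp [← IsScalarTower.algebraMap_apply K K' D.KC]
        · simp [← IsScalarTower.algebraMap_apply L K' D.KC]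
      rw [h2]
      exact (algebraMap K' D.KC).injective.comp hinj
    have halgK' : Algebra.IsAlgebraic K' D.KC := Algebra.IsAlgebraic.of_finite K' D.KC
    have halg : Algebra.IsAlgebraic (adjoin L (Set.range (algebraMap K D.KC))) D.KC := by
      have h1 : ∀ a : K', algebraMap K' D.KC a ∈ adjoin L (Set.range (algebraMap K D.KC)) := by
        have h2 : adjoin L (Set.range (algebraMap K K')) ≤
            (adjoin L (Set.range (algebraMap K D.KC))).comap (IsScalarTower.toAlgHom L K' D.KC) := by
          rw [adjoin_le_iff]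
          rintro _ ⟨a, rfl⟩
          exact subset_adjoin L _ ⟨a, rfl⟩
        intro a
        have : a ∈ adjoin L (Set.range (algebraMap K K')) := hgen ▸ mem_top
        exact h2 this
      let f : K' →+* adjoin L (Set.range (algebraMap K D.KC)) :=
        (algebraMap K' D.KC).codRestrict _ h1
      exact ⟨fun z => (halgK'.isAlgebraic z).ringHom_of_comp_eq f (RingHom.id D.KC) f.injective rfl⟩
    obtain ⟨e', he', ⟨D'⟩⟩ := K883.CvgDown.exists_descend (k := k) (K := K) (L := L) (E := D.KC)
      (KB := D.KB) hinjE (K883.CvgSetup.trdeg_lt_aleph0 ⟨s, hs⟩) s hs D.t D.transc D.finrank_eq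
    exact ⟨e', ⟨D'⟩, he'⟩
  · rintro e ⟨D⟩
    obtain ⟨e', he', D', _⟩ := K883.CvgExtend.exists_extend hinj hgen
      (K883.CvgSetup.trdeg_lt_aleph0 hfg) D
    exact ⟨e', ⟨D'⟩, he'⟩

end K883.CvgEq
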