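import Groth.Agent.W4c3irrattreebun.K883.Extend
import Groth.Agent.W4c3irrattreebun.K883.DownAlg
import Groth.Agent.W4c3irrattreebun.K883.Cvg

/-!
The set-up of S16313 and S16314, and the algebraic separable case.
-/

set_option autoImplicit false
universe u

namespace K883.CvgSetup

open W4c3irrattreebun IntermediateField
open scoped TensorProduct

theorem setup {k K L K' : Type u} [Field k] [Field K] [Field L] [Field K'] [Algebra k K]
    [Algebra k L] [Algebra (K ⊗[k] L) K'] [IsFractionRing (K ⊗[k] L) K'] [Algebra L K']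
    (hL : ∀ x : L, algebraMap L K' x = algebraMap (K ⊗[k] L) K' ((1 : K) ⊗ₜ[k] x))
    {C : Prop} (h : ∀ [Algebra k K'] [Algebra K K'] [IsScalarTower k K K'] [IsScalarTower k L K'],
      Function.Injective (Algebra.TensorProduct.productMap
        (IsScalarTower.toAlgHom k K K') (IsScalarTower.toAlgHom k L K')) →
      adjoin L (Set.range (algebraMap K K')) = ⊤ → adjoin K (Set.range (algebraMap L K')) = ⊤ → C) :
    C := by
  let φ : K →+* K' := (algebraMap (K ⊗[k] L) K').comp
    (Algebra.TensorProduct.includeLeftRingHom (R := k) (A := K) (B := L))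
  let i1 : Algebra K K' := φ.toAlgebra
  let i2 : Algebra k K' := (φ.comp (algebraMap k K)).toAlgebra
  have i3 : IsScalarTower k K K' := IsScalarTower.of_algebraMap_eq fun _ => rfl
  have i4 : IsScalarTower k L K' := IsScalarTower.of_algebraMap_eq fun a => by
    rw [hL]
    change algebraMap (K ⊗[k] L) K' (algebraMap k K a ⊗ₜ[k] 1) = _
    congr 1
    exact ((Algebra.TensorProduct.includeLeft (R := k) (S := k) (A := K) (B := L)).commutes a).trans
      ((Algebra.TensorProduct.includeRight (R := k) (A := K) (B := L)).commutes a).symm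
  have hprod : ∀ z : K ⊗[k] L, (Algebra.TensorProduct.productMap
        (IsScalarTower.toAlgHom k K K') (IsScalarTower.toAlgHom k L K')) z =
      algebraMap (K ⊗[k] L) K' z := by
    intro z
    induction z using TensorProduct.induction_on with
    | zero => simp
    | add a b ha hb => rw [map_add, map_add, ha, hb]
    | tmul a l =>
      rw [Algebra.TensorProduct.productMap_apply_tmul]
      change φ a * algebraMap L K' l = _
      rw [hL]
      change algebraMap (K ⊗[k] L) K' (a ⊗ₜ[k] 1) * _ = _
      rw [← map_mul, Algebra.TensorProduct.tmul_mul_tmul, one_mul, mul_one]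
  have hfr : ∀ x : K', ∃ a b : K ⊗[k] L, x = algebraMap (K ⊗[k] L) K' a *
      (algebraMap (K ⊗[k] L) K' b)⁻¹ := by
    intro x
    obtain ⟨a, b, _, rfl⟩ := IsFractionRing.div_surjective (A := K ⊗[k] L) x
    exact ⟨a, b, by rw [div_eq_mul_inv]⟩
  have hg1 : ∀ (F : Subfield K'), (∀ a, algebraMap K K' a ∈ F) → (∀ l, algebraMap L K' l ∈ F) →
      ∀ x, x ∈ F := by
    intro F h1 h2 x
    have h3 : ∀ z : K ⊗[k] L, algebraMap (K ⊗[k] L) K' z ∈ F := by
      intro z
      rw [← hprod]
      induction z using TensorProduct.induction_on with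
      | zero => simp
      | add a b ha hb => rw [map_add]; exact add_mem ha hb
      | tmul a l =>
        rw [Algebra.TensorProduct.productMap_apply_tmul]
        exact mul_mem (h1 a) (h2 l)
    obtain ⟨a, b, rfl⟩ := hfr x
    exact mul_mem (h3 a) (inv_mem (h3 b))
  refine h ?_ ?_ ?_
  · intro a b hab
    rw [hprod, hprod] at hab
    exact IsFractionRing.injective (K ⊗[k] L) K' hab
  · rw [eq_top_iff]
    intro x _
    exact hg1 (adjoin L (Set.range (algebraMap K K'))).toSubfield
      (fun a => subset_adjoin _ _ ⟨a, rfl⟩) (fun l => IntermediateField.algebraMap_mem _ l) x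
  · rw [eq_top_iff]
    intro x _
    exact hg1 (adjoin K (Set.range (algebraMap L K'))).toSubfield
      (fun a => IntermediateField.algebraMap_mem _ a) (fun l => subset_adjoin _ _ ⟨l, rfl⟩) x

theorem sInf_eq_of_le {S S' : Set ℕ} (h : ∀ e ∈ S, ∃ e' ∈ S', e' ≤ e)
    (h' : ∀ e ∈ S', ∃ e' ∈ S, e' ≤ e) : sInf S = sInf S' := by
  rcases S.eq_empty_or_nonempty with rfl | hne
  · have : S' = ∅ := by
      rw [Set.eq_empty_iff_forall_notMem]
      intro e he
      obtain ⟨e', he', _⟩ := h' e he
      exact he'
    rw [this]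
  · have hne' : S'.Nonempty := by
      obtain ⟨e, he⟩ := hne
      obtain ⟨e', he', _⟩ := h e he
      exact ⟨e', he'⟩
    apply le_antisymm
    · obtain ⟨e', he', hle⟩ := h' _ (Nat.sInf_mem hne')
      exact (Nat.sInf_le he').trans hle
    · obtain ⟨e', he', hle⟩ := h _ (Nat.sInf_mem hne)
      exact (Nat.sInf_le he').trans hle

theorem trdeg_lt_aleph0 {k K : Type u} [Field k] [Field K] [Algebra k K]
    (hfg : (⊤ : IntermediateField k K).FG) : Algebra.trdeg k K < Cardinal.aleph0 := by
  obtain ⟨s, hs⟩ := hfg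
  have h1 : Algebra.IsAlgebraic (adjoin k (s : Set K)) K := by
    rw [hs]
    exact ⟨fun x => isAlgebraic_algebraMap (⟨x, mem_top⟩ : (⊤ : IntermediateField k K))⟩
  rw [isAlgebraic_adjoin_iff_top] at h1
  refine (Algebra.IsAlgebraic.trdeg_le_cardinalMk k (s : Set K)).trans_lt ?_
  exact Cardinal.lt_aleph0_of_finite _

theorem scvg_eq {k K L K' : Type u} [Field k] [Field K] [Field L]
    [Field K'] [Algebra k K] [Algebra k L] [Algebra.IsSeparable k L]
    (hfg : (⊤ : IntermediateField k K).FG)
    [Algebra (K ⊗[k] L) K'] [IsFractionRing (K ⊗[k] L) K'] [Algebra L K']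
    (hL : ∀ x : L, algebraMap L K' x = algebraMap (K ⊗[k] L) K' ((1 : K) ⊗ₜ[k] x)) :
    scvg L K' = scvg k K := by
  refine setup hL ?_
  intro i1 i2 i3 i4 hinj hgen hgen'
  have hsepK' : Algebra.IsSeparable K K' := by
    have h1 : Algebra.IsSeparable K (adjoin K (Set.range (algebraMap L K'))) := by
      rw [isSeparable_adjoin_iff_isSeparable]
      rintro _ ⟨l, rfl⟩
      have h2 : IsSeparable k l := Algebra.IsSeparable.isSeparable k l
      have h3 : IsSeparable k (IsScalarTower.toAlgHom k L K' l) := h2.map _ (algebraMap L K').injective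
      exact IsSeparable.tower_top K h3
    rw [hgen'] at h1
    exact AlgEquiv.Algebra.isSeparable (topEquiv (F := K) (E := K'))
  refine sInf_eq_of_le ?_ ?_
  · rintro e ⟨D, hD⟩
    obtain ⟨s, hs⟩ := hfg
    let j1 : Algebra K D.KC := ((algebraMap K' D.KC).comp (algebraMap K K')).toAlgebra
    have j2 : IsScalarTower K K' D.KC := IsScalarTower.of_algebraMap_eq fun _ => rfl
    let j3 : Algebra k D.KC := ((algebraMap K' D.KC).comp (algebraMap k K')).toAlgebra
    have j4 : IsScalarTower k K D.KC := IsScalarTower.of_algebraMap_eq fun a => by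
      change algebraMap K' D.KC (algebraMap k K' a) =
        algebraMap K' D.KC (algebraMap K K' (algebraMap k K a))
      rw [← IsScalarTower.algebraMap_apply k K K']
    let j5 : Algebra k D.KB := ((algebraMap L D.KB).comp (algebraMap k L)).toAlgebra
    have j6 : IsScalarTower k D.KB D.KC := IsScalarTower.of_algebraMap_eq fun a => by
      change algebraMap K' D.KC (algebraMap k K' a) =
        algebraMap D.KB D.KC (algebraMap L D.KB (algebraMap k L a))
      rw [IsScalarTower.algebraMap_apply k L K', ← IsScalarTower.algebraMap_apply L D.KB D.KC,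
        ← IsScalarTower.algebraMap_apply L K' D.KC]
    have hsep : Algebra.IsSeparable K D.KC := Algebra.IsSeparable.trans K K' D.KC
    have halg : Algebra.IsAlgebraic K D.KC := Algebra.IsSeparable.isAlgebraic K D.KC
    obtain ⟨e', he', D', hD'⟩ := K883.CvgDownAlg.exists_covDiag_of_algebraic (k := k) (K := K)
      (κ := D.KC) (KB := D.KB) s hs D.t D.transc D.finrank_eq
    exact ⟨e', ⟨D', hD' hsep⟩, he'⟩
  · rintro e ⟨D, hD⟩
    obtain ⟨e', he', D', hD'⟩ := K883.CvgExtend.exists_extend hinj hgen (trdeg_lt_aleph0 hfg) D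
    exact ⟨e', ⟨D', hD' hD⟩, he'⟩

end K883.CvgSetup
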