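import Groth.Agent.W4c3irrattreebun.K883.Table
import Groth.Agent.W4c3irrattreebun.K883.Trdeg
import Mathlib.RingTheory.TensorProduct.Quotient
import Mathlib.RingTheory.TensorProduct.Finite
import Mathlib.FieldTheory.SeparableClosure

/-!
Extending a covering diagram along an extension of the base field.
-/

set_option autoImplicit false
universe u

namespace K883.CvgExtend

open W4c3irrattreebun IntermediateField
open scoped TensorProduct

theorem exists_compositum (K K' KC : Type u) [Field K] [Field K'] [Field KC] [Algebra K K']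
    [Algebra K KC] [Module.Finite K KC] :
    ∃ (E : Type u) (_ : Field E) (_ : Algebra K' E) (j : KC →+* E), Module.Finite K' E ∧
      (∀ a : K, j (algebraMap K KC a) = algebraMap K' E (algebraMap K K' a)) ∧
      Algebra.adjoin K' (Set.range j) = ⊤ := by
  let T := K' ⊗[K] KC
  have hnt : Nontrivial T :=
    Algebra.TensorProduct.nontrivial_of_algebraMap_injective_of_flat_left K K' KC
      (algebraMap K KC).injective
  obtain ⟨m, hm⟩ := Ideal.exists_maximal T
  let E := T ⧸ m
  let fE : Field E := Ideal.Quotient.field m
  let j : KC →+* E := (Ideal.Quotient.mk m).comp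
    (Algebra.TensorProduct.includeRight (R := K) (A := K') (B := KC)).toRingHom
  refine ⟨E, fE, inferInstanceAs (Algebra K' (T ⧸ m)), j, ?_, ?_, ?_⟩
  · have h1 : Module.Finite K' T := inferInstance
    exact Module.Finite.quotient K' (Submodule.restrictScalars K' m)
  · intro a
    change Ideal.Quotient.mk m ((1 : K') ⊗ₜ[K] algebraMap K KC a) =
      Ideal.Quotient.mk m (algebraMap K' T (algebraMap K K' a))
    congr 1
    have h1 := (Algebra.TensorProduct.includeRight (R := K) (A := K') (B := KC)).commutes a
    have h2 := (Algebra.TensorProduct.includeLeft (R := K) (S := K) (A := K') (B := KC)).commutes a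
    exact h1.trans h2.symm
  · rw [eq_top_iff]
    rintro x -
    obtain ⟨x, rfl⟩ := Ideal.Quotient.mk_surjective x
    induction x using TensorProduct.induction_on with
    | zero => rw [map_zero]; exact zero_mem _
    | add a b ha hb => rw [map_add]; exact add_mem ha hb
    | tmul a c =>
      have h : Ideal.Quotient.mk m (a ⊗ₜ[K] c) = a • j c := by
        change Ideal.Quotient.mk m (a ⊗ₜ[K] c) = Ideal.Quotient.mk m (a • ((1 : K') ⊗ₜ[K] c))
        rw [TensorProduct.smul_tmul', smul_eq_mul, mul_one]
      rw [h]
      exact Subalgebra.smul_mem _ (Algebra.subset_adjoin (Set.mem_range_self c)) a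

/-- Extension of covering diagrams. -/
theorem exists_extend {k K L K' : Type u} [Field k] [Field K] [Field L] [Field K']
    [Algebra k K] [Algebra k L] [Algebra k K'] [Algebra K K'] [Algebra L K']
    [IsScalarTower k K K'] [IsScalarTower k L K']
    (hinj : Function.Injective (Algebra.TensorProduct.productMap
      (IsScalarTower.toAlgHom k K K') (IsScalarTower.toAlgHom k L K')))
    (hgen : adjoin L (Set.range (algebraMap K K')) = ⊤)
    (hfin : Algebra.trdeg k K < Cardinal.aleph0) {e : ℕ} (D : CovDiag.{u} k K e) :
    ∃ e' ≤ e, ∃ D' : CovDiag.{u} L K' e',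
      (Algebra.IsSeparable K D.KC → Algebra.IsSeparable K' D'.KC) := by
  obtain ⟨E, fE, algK'E, j, hfinE, hj, hadj⟩ := exists_compositum K K' D.KC
  -- algebra structures on `E`
  let algLE : Algebra L E := ((algebraMap K' E).comp (algebraMap L K')).toAlgebra
  have tLE : IsScalarTower L K' E := IsScalarTower.of_algebraMap_eq fun _ => rfl
  let algCE : Algebra D.KC E := j.toAlgebra
  let algKE : Algebra K E := ((algebraMap K' E).comp (algebraMap K K')).toAlgebra
  have tKE : IsScalarTower K K' E := IsScalarTower.of_algebraMap_eq fun _ => rfl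
  have tKCE : IsScalarTower K D.KC E := IsScalarTower.of_algebraMap_eq fun a => (hj a).symm
  let algkE : Algebra k E := ((algebraMap K' E).comp (algebraMap k K')).toAlgebra
  have tkK'E : IsScalarTower k K' E := IsScalarTower.of_algebraMap_eq fun _ => rfl
  have tkKE : IsScalarTower k K E := IsScalarTower.of_algebraMap_eq fun a => by
    change algebraMap K' E (algebraMap k K' a) = algebraMap K' E (algebraMap K K' (algebraMap k K a))
    rw [← IsScalarTower.algebraMap_apply k K K']
  have tkLE : IsScalarTower k L E := IsScalarTower.of_algebraMap_eq fun a => by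
    change algebraMap K' E (algebraMap k K' a) = algebraMap K' E (algebraMap L K' (algebraMap k L a))
    rw [← IsScalarTower.algebraMap_apply k L K']
  let algBE : Algebra D.KB E := (j.comp (algebraMap D.KB D.KC)).toAlgebra
  have tBCE : IsScalarTower D.KB D.KC E := IsScalarTower.of_algebraMap_eq fun _ => rfl
  have tkBE : IsScalarTower k D.KB E := IsScalarTower.of_algebraMap_eq fun a => by
    change _ = j (algebraMap D.KB D.KC (algebraMap k D.KB a))
    rw [← IsScalarTower.algebraMap_apply k D.KB D.KC, IsScalarTower.algebraMap_apply k K D.KC, hj]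
    exact IsScalarTower.algebraMap_apply k K E a
  -- the subfields
  let B' : IntermediateField L E := adjoin L (Set.range (algebraMap D.KB E))
  let M' : IntermediateField B' E := adjoin B' {j D.t}
  let M₀ : IntermediateField D.KB D.KC := adjoin D.KB {D.t}
  have hBB' : ∀ x : D.KB, algebraMap D.KB E x ∈ B' := fun x => subset_adjoin _ _ ⟨x, rfl⟩
  have hM : ∀ x ∈ M₀, j x ∈ M' := by
    intro x hx
    induction hx using adjoin_induction with
    | mem x hx => rw [hx]; exact mem_adjoin_simple_self B' _
    | algebraMap x => exact M'.algebraMap_mem ⟨_, hBB' x⟩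
    | add x y _ _ hx hy => rw [map_add]; exact add_mem hx hy
    | inv x _ hx => rw [map_inv₀]; exact inv_mem hx
    | mul x y _ _ hx hy => rw [map_mul]; exact mul_mem hx hy
  -- the basis
  let bas : Module.Basis (Fin e) M₀ D.KC := Module.finBasisOfFinrankEq M₀ D.KC D.finrank_eq
  let b : Fin e → E := fun i => j (bas i)
  have hjmem : ∀ x : D.KC, j x ∈ Submodule.span M' (Set.range b) := by
    intro x
    rw [← bas.sum_repr x, map_sum]
    refine Submodule.sum_mem _ fun i _ => ?_
    have h1 : j (bas.repr x i • bas i) = (⟨j (bas.repr x i), hM _ (bas.repr x i).2⟩ : M') • b i := by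
      change j ((bas.repr x i : D.KC) * bas i) = j (bas.repr x i) * j (bas i)
      rw [map_mul]
    rw [h1]
    exact Submodule.smul_mem _ _ (Submodule.subset_span ⟨i, rfl⟩)
  obtain ⟨F, hF⟩ := K883.CvgTable.exists_intermediateField b
    (by have := hjmem 1; rwa [map_one] at this)
    (fun i l => by have := hjmem (bas i * bas l); rwa [map_mul] at this)
  have hjF : ∀ x : D.KC, j x ∈ F := fun x => (hF _).2 (hjmem x)
  have hLF : ∀ x : L, algebraMap L E x ∈ F := fun x =>
    F.algebraMap_mem ⟨algebraMap L E x, M'.algebraMap_mem ⟨_, B'.algebraMap_mem x⟩⟩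
  have hK'F : ∀ x : K', algebraMap K' E x ∈ F := by
    let G : IntermediateField L K' :=
      { (F.toSubfield.comap (algebraMap K' E)) with
        algebraMap_mem' := fun x => hLF x }
    have hG : (⊤ : IntermediateField L K') ≤ G := by
      rw [← hgen, adjoin_le_iff]
      rintro _ ⟨a, rfl⟩
      change algebraMap K' E (algebraMap K K' a) ∈ F
      rw [← hj]
      exact hjF _
    intro x
    exact hG (mem_top : x ∈ ⊤)
  have hFtop : ∀ x : E, x ∈ F := by
    let W : Subalgebra K' E := { F.toSubfield.toSubring with algebraMap_mem' := hK'F }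
    have hW : (⊤ : Subalgebra K' E) ≤ W := by
      rw [← hadj, Algebra.adjoin_le_iff]
      rintro _ ⟨x, rfl⟩
      exact hjF x
    intro x
    exact hW (Algebra.mem_top : x ∈ ⊤)
  have hspan : Submodule.span M' (Set.range b) = ⊤ := by
    rw [eq_top_iff]
    intro x _
    exact (hF x).1 (hFtop x)
  have hfinM : Module.Finite M' E :=
    ⟨⟨(Set.finite_range b).toFinset, by rw [Set.Finite.coe_toFinset, hspan]⟩⟩
  have hrank : Module.finrank M' E ≤ e := by
    have h := finrank_range_le_card (R := M') b
    rw [Fintype.card_fin, Set.finrank, hspan, finrank_top] at h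
    exact h
  -- transcendence
  have htr : Transcendental B' (j D.t) := by
    intro halg
    have h0 : Algebra.IsAlgebraic B' M' := isAlgebraic_adjoin_simple halg.isIntegral
    have h0' : Algebra.IsAlgebraic M' E := Algebra.IsAlgebraic.of_finite M' E
    have h00 : Algebra.IsAlgebraic B' E := Algebra.IsAlgebraic.trans B' M' E
    have h1 : Algebra.trdeg L E ≤ Algebra.trdeg k D.KB :=
      K883.CvgTrdeg.trdeg_le_of_compositum k D.KB L E
    have hinjE : Function.Injective (Algebra.TensorProduct.productMap
      (IsScalarTower.toAlgHom k K E) (IsScalarTower.toAlgHom k L E)) := by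
      have h2 : (Algebra.TensorProduct.productMap
        (IsScalarTower.toAlgHom k K E) (IsScalarTower.toAlgHom k L E)) =
        (IsScalarTower.toAlgHom k K' E).comp (Algebra.TensorProduct.productMap
        (IsScalarTower.toAlgHom k K K') (IsScalarTower.toAlgHom k L K')) := by
        ext x
        · simp [← IsScalarTower.algebraMap_apply K K' E]
        · simp [← IsScalarTower.algebraMap_apply L K' E]
      rw [h2]
      exact (algebraMap K' E).injective.comp hinj
    have h2 : Algebra.trdeg k K ≤ Algebra.trdeg L E :=
      K883.CvgTrdeg.trdeg_le_of_injective_tensor hinjE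
    have h3 : Algebra.trdeg k K + Algebra.trdeg K D.KC = Algebra.trdeg k D.KC :=
      trdeg_add_eq k K
    have h3' : Algebra.trdeg K D.KC = 0 := trdeg_eq_zero
    have h4 : Algebra.trdeg k D.KB + Algebra.trdeg D.KB D.KC = Algebra.trdeg k D.KC :=
      trdeg_add_eq k D.KB
    have h5 : Algebra.trdeg D.KB D.KC ≠ 0 := by
      rw [trdeg_ne_zero_iff]
      exact ⟨⟨D.t, D.transc⟩⟩
    rw [h3', add_zero] at h3
    rw [← h3] at h4
    have h6 := h2.trans h1
    have h7 : Algebra.trdeg k D.KB < Cardinal.aleph0 := lt_of_le_of_lt (by
      rw [← h4]; exact self_le_add_right _ _) hfin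
    have h8 : Algebra.trdeg D.KB D.KC < Cardinal.aleph0 := lt_of_le_of_lt (by
      rw [← h4]; exact self_le_add_left _ _) hfin
    obtain ⟨m, hm⟩ := Cardinal.lt_aleph0.1 h7
    obtain ⟨l, hl⟩ := Cardinal.lt_aleph0.1 h8
    rw [← h4, hm, hl] at h6
    rw [hl] at h5
    norm_cast at h5 h6
    omega
  refine ⟨_, hrank, ⟨{
    KC := E
    KB := B'
    instFieldC := inferInstance
    instFieldB := inferInstance
    algKC := algK'E
    algkC := algLE
    towerK := inferInstance
    algkB := inferInstance
    algBC := inferInstance
    towerB := inferInstance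
    finiteK := hfinE
    t := j D.t
    transc := htr
    finiteT := hfinM
    finrank_eq := rfl }, ?_⟩⟩
  intro hsep
  change Algebra.IsSeparable K' E
  have h9 : ∀ x : D.KC, IsSeparable K' (j x) := by
    intro x
    have h10 : IsSeparable K x := Algebra.IsSeparable.isSeparable K x
    have h10' : IsSeparable K (IsScalarTower.toAlgHom K D.KC E x) :=
      h10.map _ (algebraMap D.KC E).injective
    exact IsSeparable.tower_top K' h10'
  have h11 : adjoin K' (Set.range j) = ⊤ := by
    rw [eq_top_iff]
    intro x _
    exact algebra_adjoin_le_adjoin K' (Set.range j) (hadj ▸ (Algebra.mem_top : x ∈ ⊤))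
  have h12 : Algebra.IsSeparable K' (adjoin K' (Set.range j)) := by
    rw [isSeparable_adjoin_iff_isSeparable]
    rintro _ ⟨x, rfl⟩
    exact h9 x
  rw [h11] at h12
  exact AlgEquiv.Algebra.isSeparable (topEquiv (F := K') (E := E))

end K883.CvgExtend
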