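import Mathlib.FieldTheory.IntermediateField.Algebraic
import Groth.Prelude.Def_W4c3irrattreebunCvg

/-!
Producing a covering diagram from a finite spanning family closed under multiplication.
-/

set_option autoImplicit false
universe u

namespace K883.CvgTable

open W4c3irrattreebun IntermediateField

/-- The span of a finite family closed under multiplication is a subfield. -/
theorem exists_intermediateField {M κ : Type*} [Field M] [Field κ] [Algebra M κ] {n : ℕ}
    (b : Fin n → κ) (h1 : (1 : κ) ∈ Submodule.span M (Set.range b))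
    (hmul : ∀ i j, b i * b j ∈ Submodule.span M (Set.range b)) :
    ∃ F : IntermediateField M κ, ∀ x, x ∈ F ↔ x ∈ Submodule.span M (Set.range b) := by
  have hVV : Submodule.span M (Set.range b) * Submodule.span M (Set.range b) ≤
      Submodule.span M (Set.range b) := by
    rw [Submodule.span_mul_span, Submodule.span_le]
    rintro _ ⟨_, ⟨i, rfl⟩, _, ⟨j, rfl⟩, rfl⟩
    exact hmul i j
  let W : Subalgebra M κ := (Submodule.span M (Set.range b)).toSubalgebra h1
    (fun x y hx hy => hVV (Submodule.mul_mem_mul hx hy))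
  have hfin : Module.Finite M W := by
    have : (Submodule.span M (Set.range b)).FG := Submodule.fg_span (Set.finite_range b)
    exact Module.Finite.iff_fg.2 this
  have halg : ∀ x ∈ W, IsAlgebraic M x := by
    intro x hx
    have h : IsIntegral M (⟨x, hx⟩ : W) := Algebra.IsIntegral.isIntegral _
    have h2 : IsIntegral M (W.val ⟨x, hx⟩) := h.map W.val
    exact h2.isAlgebraic
  refine ⟨W.toIntermediateField fun x hx => ?_, fun x => Iff.rfl⟩
  exact W.inv_mem_of_algebraic (x := ⟨x, hx⟩) (halg x hx)

/-- If a subring with fraction field `F` lies in the span of `b`, the span is everything. -/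
theorem span_eq_top_of_subring {M F : Type*} [Field M] [Field F] [Algebra M F] {n : ℕ}
    (b : Fin n → F) (S : Subring F) (hS : ∀ x ∈ S, x ∈ Submodule.span M (Set.range b))
    (hfrac : ∀ x : F, ∃ a ∈ S, ∃ c ∈ S, x = a * c⁻¹) :
    Submodule.span M (Set.range b) = ⊤ := by
  have hclos : (Submonoid.closure (S : Set F) : Set F) = S := by
    apply le_antisymm
    · exact (Submonoid.closure_le (S := S.toSubmonoid)).2 le_rfl
    · exact Submonoid.subset_closure
  have hadj : Subalgebra.toSubmodule (Algebra.adjoin M (S : Set F)) = Submodule.span M (S : Set F) := by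
    rw [Algebra.adjoin_eq_span, hclos]
  have hle : Subalgebra.toSubmodule (Algebra.adjoin M (S : Set F)) ≤
      Submodule.span M (Set.range b) := by
    rw [hadj, Submodule.span_le]
    exact hS
  have hfin : Module.Finite M (Algebra.adjoin M (S : Set F)) := by
    have h0 : Module.Finite M (Submodule.span M (Set.range b)) :=
      Module.Finite.iff_fg.2 (Submodule.fg_span (Set.finite_range b))
    exact Submodule.finiteDimensional_of_le hle
  have halg : ∀ x ∈ Algebra.adjoin M (S : Set F), IsAlgebraic M x := by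
    intro x hx
    have h : IsIntegral M (⟨x, hx⟩ : Algebra.adjoin M (S : Set F)) := Algebra.IsIntegral.isIntegral _
    have h2 : IsIntegral M ((Algebra.adjoin M (S : Set F)).val ⟨x, hx⟩) := h.map _
    exact h2.isAlgebraic
  rw [eq_top_iff]
  intro x _
  obtain ⟨a, ha, c, hc, rfl⟩ := hfrac x
  apply hle
  have ha' := Algebra.subset_adjoin (R := M) ha
  have hc' := Algebra.subset_adjoin (R := M) hc
  exact (Algebra.adjoin M (S : Set F)).mul_mem ha'
    ((Algebra.adjoin M (S : Set F)).inv_mem_of_algebraic (x := ⟨c, hc'⟩) (halg c hc'))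

/-- The table lemma: a covering diagram from a multiplication table. -/
theorem exists_covDiag {k K κ : Type u} [Field k] [Field K] [Field κ] [Algebra k K] [Algebra K κ]
    [Algebra k κ] [IsScalarTower k K κ] [Algebra.IsAlgebraic K κ]
    (s : Set K) (hs : adjoin k s = ⊤)
    (B : IntermediateField k κ) (hB : B.FG) (t : κ) (ht : Transcendental B t) {n : ℕ}
    (b : Fin n → κ)
    (h1 : (1 : κ) ∈ Submodule.span (adjoin B ({t} : Set κ)) (Set.range b))
    (hmul : ∀ i j, b i * b j ∈ Submodule.span (adjoin B ({t} : Set κ)) (Set.range b))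
    (hK : ∀ a ∈ s, algebraMap K κ a ∈ Submodule.span (adjoin B ({t} : Set κ)) (Set.range b)) :
    ∃ e' ≤ n, ∃ D : CovDiag.{u} k K e', (Algebra.IsSeparable K κ → Algebra.IsSeparable K D.KC) := by
  classical
  obtain ⟨F₀, hF₀⟩ := exists_intermediateField b h1 hmul
  -- the field as an extension of `B`
  obtain ⟨F, hF⟩ : ∃ F : IntermediateField B κ, ∀ x, x ∈ F ↔ x ∈ F₀ :=
    ⟨F₀.restrictScalars B, fun x => Iff.rfl⟩
  have hM : ∀ x ∈ adjoin B ({t} : Set κ), x ∈ F := by
    intro x hx
    rw [hF]
    exact F₀.algebraMap_mem ⟨x, hx⟩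
  have htF : t ∈ F := hM t (mem_adjoin_simple_self B t)
  have hbF : ∀ i, b i ∈ F := fun i => (hF _).2 ((hF₀ _).2 (Submodule.subset_span ⟨i, rfl⟩))
  -- `K` maps into `F`
  have hKF : ∀ a : K, algebraMap K κ a ∈ F := by
    have h2 : adjoin k s ≤ (F.restrictScalars k).comap (IsScalarTower.toAlgHom k K κ) := by
      rw [adjoin_le_iff]
      intro a ha
      exact (hF _).2 ((hF₀ _).2 (hK a ha))
    intro a
    have : a ∈ adjoin k s := hs ▸ mem_top
    exact h2 this
  obtain ⟨FK, hFK⟩ : ∃ FK : IntermediateField K κ, ∀ x, x ∈ FK ↔ x ∈ F :=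
    ⟨{ F.toSubfield with algebraMap_mem' := hKF }, fun x => Iff.rfl⟩
  -- finiteness over `K`
  obtain ⟨sB, hsB⟩ := hB
  let T : Set κ := ((sB : Set κ) ∪ {t}) ∪ Set.range b
  have hTfin : T.Finite := ((sB.finite_toSet).union (Set.finite_singleton t)).union
    (Set.finite_range b)
  have hBT : ∀ x ∈ B, x ∈ adjoin K T := by
    have h3 : B ≤ (adjoin K T).restrictScalars k := by
      rw [← hsB, adjoin_le_iff]
      intro x hx
      exact subset_adjoin K T (Or.inl (Or.inl hx))
    exact h3
  have hMT : ∀ x ∈ adjoin B ({t} : Set κ), x ∈ adjoin K T := by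
    intro x hx
    induction hx using adjoin_induction with
    | mem x hx => rw [hx]; exact subset_adjoin K T (Or.inl (Or.inr rfl))
    | algebraMap x => exact hBT _ x.2
    | add x y _ _ hx hy => exact add_mem hx hy
    | inv x _ hx => exact inv_mem hx
    | mul x y _ _ hx hy => exact mul_mem hx hy
  have hVT : ∀ x ∈ Submodule.span (adjoin B ({t} : Set κ)) (Set.range b), x ∈ adjoin K T := by
    intro x hx
    induction hx using Submodule.span_induction with
    | mem x hx => exact subset_adjoin K T (Or.inr hx)
    | zero => exact zero_mem _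
    | add x y _ _ hx hy => exact add_mem hx hy
    | smul m x _ hx => exact mul_mem (hMT m m.2) hx
  have hFT : FK ≤ adjoin K T := fun x hx => hVT x ((hF₀ _).1 ((hF _).1 ((hFK _).1 hx)))
  have hfinT : FiniteDimensional K (adjoin K T) := by
    have := hTfin.to_subtype
    exact finiteDimensional_adjoin fun x _ => (Algebra.IsAlgebraic.isAlgebraic (R := K) x).isIntegral
  have hfinK : FiniteDimensional K FK :=
    Submodule.finiteDimensional_of_le (S₁ := FK.toSubalgebra.toSubmodule)
      (S₂ := (adjoin K T).toSubalgebra.toSubmodule) hFT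
  -- the spanning family in `F`
  let tF : F := ⟨t, htF⟩
  let bF : Fin n → F := fun i => ⟨b i, hbF i⟩
  have hMF : ∀ x ∈ adjoin B ({t} : Set κ), ∃ m ∈ adjoin B ({tF} : Set F), (m : κ) = x := by
    intro x hx
    induction hx using adjoin_induction with
    | mem x hx => rw [hx]; exact ⟨tF, mem_adjoin_simple_self B tF, rfl⟩
    | algebraMap x => exact ⟨algebraMap B F x, IntermediateField.algebraMap_mem _ _, rfl⟩
    | add x y _ _ hx hy =>
      obtain ⟨m, hm, rfl⟩ := hx
      obtain ⟨m', hm', rfl⟩ := hy
      exact ⟨m + m', add_mem hm hm', rfl⟩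
    | inv x _ hx =>
      obtain ⟨m, hm, rfl⟩ := hx
      exact ⟨m⁻¹, inv_mem hm, rfl⟩
    | mul x y _ _ hx hy =>
      obtain ⟨m, hm, rfl⟩ := hx
      obtain ⟨m', hm', rfl⟩ := hy
      exact ⟨m * m', mul_mem hm hm', rfl⟩
  have hspan : Submodule.span (adjoin B ({tF} : Set F)) (Set.range bF) = ⊤ := by
    rw [eq_top_iff]
    rintro ⟨x, hx⟩ _
    have hx' : x ∈ Submodule.span (adjoin B ({t} : Set κ)) (Set.range b) :=
      (hF₀ _).1 ((hF _).1 hx)
    have key : ∀ y ∈ Submodule.span (adjoin B ({t} : Set κ)) (Set.range b),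
        ∃ z ∈ Submodule.span (adjoin B ({tF} : Set F)) (Set.range bF), (z : κ) = y := by
      intro y hy
      induction hy using Submodule.span_induction with
      | mem x hx =>
        obtain ⟨i, rfl⟩ := hx
        exact ⟨bF i, Submodule.subset_span ⟨i, rfl⟩, rfl⟩
      | zero => exact ⟨0, zero_mem _, rfl⟩
      | add x y _ _ hx hy =>
        obtain ⟨z, hz, rfl⟩ := hx
        obtain ⟨z', hz', rfl⟩ := hy
        exact ⟨z + z', add_mem hz hz', rfl⟩
      | smul m x _ hx =>
        obtain ⟨z, hz, rfl⟩ := hx
        obtain ⟨m', hm', hmm⟩ := hMF m m.2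
        refine ⟨(⟨m', hm'⟩ : adjoin B ({tF} : Set F)) • z, Submodule.smul_mem _ _ hz, ?_⟩
        change (m' : κ) * (z : κ) = (m : κ) * z
        rw [hmm]
    obtain ⟨z, hz, hzx⟩ := key x hx'
    have : z = ⟨x, hx⟩ := Subtype.ext hzx
    rw [← this]
    exact hz
  have hfin : Module.Finite (adjoin B ({tF} : Set F)) F :=
    ⟨⟨Finset.univ.image bF, by rw [Finset.coe_image, Finset.coe_univ, Set.image_univ, hspan]⟩⟩
  have hrank : Module.finrank (adjoin B ({tF} : Set F)) F ≤ n := by
    have h := finrank_range_le_card (R := adjoin B ({tF} : Set F)) bF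
    rw [Fintype.card_fin, Set.finrank, hspan, finrank_top] at h
    exact h
  -- algebra structures
  let φ : K →+* F := (algebraMap K κ).codRestrict F hKF
  have htr : Transcendental B tF := by
    intro h
    exact ht (h.algHom F.val)
  refine ⟨_, hrank, ⟨{
    KC := F
    KB := B
    instFieldC := inferInstance
    instFieldB := inferInstance
    algKC := φ.toAlgebra
    algkC := inferInstance
    towerK := @IsScalarTower.of_algebraMap_eq k K F _ _ _ _ φ.toAlgebra _ fun x =>
      Subtype.ext (IsScalarTower.algebraMap_apply k K κ x)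
    algkB := inferInstance
    algBC := inferInstance
    towerB := inferInstance
    finiteK := ?_
    t := tF
    transc := htr
    finiteT := hfin
    finrank_eq := rfl }, ?_⟩⟩
  · let alg : Algebra K F := φ.toAlgebra
    let e : FK →ₗ[K] F :=
      { toFun := fun x => ⟨x, (hFK _).1 x.2⟩
        map_add' := fun x y => rfl
        map_smul' := fun a x => Subtype.ext (by
          change ((a • x : FK) : κ) = algebraMap K κ a * x
          rw [IntermediateField.coe_smul, Algebra.smul_def]) }
    exact Module.Finite.of_surjective e fun x => ⟨⟨x, (hFK _).2 x.2⟩, rfl⟩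
  · intro hsep
    let alg : Algebra K F := φ.toAlgebra
    let f : F →ₐ[K] κ := { F.val.toRingHom with commutes' := fun a => rfl }
    exact Algebra.IsSeparable.of_algHom K κ f

end K883.CvgTable
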